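/-
Special unitary groups acting on vectors, and the embeddings of the blocks on consecutive coordinates.
-/
import Cfsg.Prelude.Def_PhanSystems
import Cfsg.Agent.Lib.ClassicalForms.Unitary.Basic

set_option autoImplicit false
set_option linter.unusedSectionVars false

open Matrix

namespace CfsgLib.SUAmalgam

open CfsgLib.ClassicalForms

variable {F : Type*} [Field F] {q m r : ℕ}

/-- The special unitary group. -/
abbrev SUg (m : ℕ) (F : Type*) [Field F] (q : ℕ) := ↥(Cfsg.SU m F q)

/-- The matrix of an element. -/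
abbrev mat (g : SUg m F q) : Matrix (Fin m) (Fin m) F := ((g : Matrix.SpecialLinearGroup (Fin m) F) :
  Matrix (Fin m) (Fin m) F)

/-- The action on column vectors. -/
def act (g : SUg m F q) (x : Fin m → F) : Fin m → F := mat g *ᵥ x

theorem mat_mul (g h : SUg m F q) : mat (g * h) = mat g * mat h := rfl

@[simp] theorem mat_one : mat (1 : SUg m F q) = 1 := rfl

theorem act_mul (g h : SUg m F q) (x : Fin m → F) : act (g * h) x = act g (act h x) := by
  simp only [act, mulVec_mulVec, mat_mul]

@[simp] theorem act_one (x : Fin m → F) : act (1 : SUg m F q) x = x := by simp [act]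

theorem act_inv_act (g : SUg m F q) (x : Fin m → F) : act g⁻¹ (act g x) = x := by
  rw [← act_mul, inv_mul_cancel, act_one]

theorem act_act_inv (g : SUg m F q) (x : Fin m → F) : act g (act g⁻¹ x) = x := by
  rw [← act_mul, mul_inv_cancel, act_one]

theorem act_add (g : SUg m F q) (x y : Fin m → F) : act g (x + y) = act g x + act g y :=
  mulVec_add _ _ _

theorem act_smul (g : SUg m F q) (a : F) (x : Fin m → F) : act g (a • x) = a • act g x :=
  mulVec_smul _ _ _

@[simp] theorem act_zero (g : SUg m F q) : act g (0 : Fin m → F) = 0 := mulVec_zero _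

theorem ext_act {g h : SUg m F q} (H : ∀ k, act g (Pi.single k 1) = act h (Pi.single k 1)) : g = h :=
  Subtype.ext (Subtype.ext (Matrix.ext_of_mulVec_single fun k => H k))

theorem act_single (g : SUg m F q) (k l : Fin m) : act g (Pi.single k 1) l = mat g l k := by
  simp [act]

theorem herm_act (g : SUg m F q) (x y : Fin m → F) :
    Cfsg.hermForm m F q (act g x) (act g y) = Cfsg.hermForm m F q x y := g.2 x y

/-- An element from a matrix. -/
def mk (A : Matrix (Fin m) (Fin m) F) (hd : A.det = 1)
    (hh : ∀ x y, Cfsg.hermForm m F q (A *ᵥ x) (A *ᵥ y) = Cfsg.hermForm m F q x y) : SUg m F q :=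
  ⟨⟨A, hd⟩, hh⟩

@[simp] theorem mat_mk (A : Matrix (Fin m) (Fin m) F) (hd hh) : mat (mk (q := q) A hd hh) = A := rfl

/-- The coordinates from `i` on. -/
def shift (i : ℕ) (hi : i + r ≤ m) (a : Fin r) : Fin m := ⟨i + a, by omega⟩

theorem shift_injective (i : ℕ) (hi : i + r ≤ m) : Function.Injective (shift (r := r) (m := m) i hi) :=
  fun a b h => Fin.ext (by simpa [shift] using h)

/-- A permutation bringing the block to the front. -/
noncomputable def blockEquiv (i : ℕ) (hi : i + r ≤ m) :
    Fin r ⊕ ↥(Set.range (shift (r := r) (m := m) i hi))ᶜ ≃ Fin m :=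
  ((Equiv.ofInjective _ (shift_injective i hi)).sumCongr (Equiv.refl _)).trans (Equiv.Set.sumCompl _)

@[simp] theorem blockEquiv_inl (i : ℕ) (hi : i + r ≤ m) (a : Fin r) :
    blockEquiv i hi (Sum.inl a) = shift i hi a := by
  simp [blockEquiv]

@[simp] theorem blockEquiv_inr (i : ℕ) (hi : i + r ≤ m)
    (k : ↥(Set.range (shift (r := r) (m := m) i hi))ᶜ) :
    blockEquiv i hi (Sum.inr k) = k := by
  simp [blockEquiv]

open Classical in
/-- The block matrix. -/
noncomputable def blockMat (i : ℕ) (hi : i + r ≤ m) (A : Matrix (Fin r) (Fin r) F) :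
    Matrix (Fin m) (Fin m) F :=
  Matrix.reindex (blockEquiv i hi) (blockEquiv i hi) (Matrix.fromBlocks A 0 0 1)

open Classical in
theorem blockMat_one (i : ℕ) (hi : i + r ≤ m) :
    blockMat i hi (1 : Matrix (Fin r) (Fin r) F) = 1 := by
  rw [blockMat, Matrix.fromBlocks_one, Matrix.reindex_apply, Matrix.submatrix_one_equiv]

open Classical in
theorem blockMat_mul (i : ℕ) (hi : i + r ≤ m) (A B : Matrix (Fin r) (Fin r) F) :
    blockMat i hi (A * B) = blockMat i hi A * blockMat i hi B := by
  simp only [blockMat, Matrix.reindex_apply, Matrix.submatrix_mul_equiv, Matrix.fromBlocks_multiply]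
  simp

open Classical in
theorem det_blockMat (i : ℕ) (hi : i + r ≤ m) (A : Matrix (Fin r) (Fin r) F) :
    (blockMat i hi A).det = A.det := by
  rw [blockMat, Matrix.det_reindex_self, Matrix.det_fromBlocks_zero₂₁, Matrix.det_one, mul_one]

open Classical in
theorem blockMat_shift (i : ℕ) (hi : i + r ≤ m) (A : Matrix (Fin r) (Fin r) F) (x : Fin m → F)
    (a : Fin r) : (blockMat i hi A *ᵥ x) (shift i hi a) = (A *ᵥ fun b => x (shift i hi b)) a := by
  rw [blockMat, Matrix.reindex_apply, Matrix.submatrix_mulVec_equiv]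
  simp only [Equiv.symm_symm, Function.comp_apply]
  rw [← blockEquiv_inl, Equiv.symm_apply_apply, Matrix.fromBlocks_mulVec]
  simp [Function.comp_def]

open Classical in
theorem blockMat_other (i : ℕ) (hi : i + r ≤ m) (A : Matrix (Fin r) (Fin r) F) (x : Fin m → F)
    {k : Fin m} (hk : k ∉ Set.range (shift (r := r) (m := m) i hi)) : (blockMat i hi A *ᵥ x) k = x k := by
  rw [blockMat, Matrix.reindex_apply, Matrix.submatrix_mulVec_equiv]
  simp only [Equiv.symm_symm, Function.comp_apply]
  conv_lhs => rw [show k = blockEquiv i hi (Sum.inr ⟨k, hk⟩) from (blockEquiv_inr i hi ⟨k, hk⟩).symm]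
  rw [Equiv.symm_apply_apply, Matrix.fromBlocks_mulVec]
  simp [Function.comp_def]

theorem notMem_range_shift (i : ℕ) (hi : i + r ≤ m) {k : Fin m} :
    k ∉ Set.range (shift (r := r) (m := m) i hi) ↔ (k : ℕ) < i ∨ i + r ≤ k := by
  constructor
  · intro h
    by_contra hc
    simp only [not_or, not_lt, not_le] at hc
    exact h ⟨⟨k - i, by omega⟩, Fin.ext (show i + ((k : ℕ) - i) = k by omega)⟩
  · rintro h ⟨a, rfl⟩
    have := a.isLt
    simp only [shift] at h
    omega

theorem herm_split (c : Conj F q) (i : ℕ) (hi : i + r ≤ m) (x y : Fin m → F) :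
    Cfsg.hermForm m F q x y = Cfsg.hermForm r F q (fun a => x (shift i hi a)) (fun a => y (shift i hi a)) +
      ∑ᶠ k : ↥(Set.range (shift (r := r) (m := m) i hi))ᶜ, x k * c.σ (y k) := by
  classical
  rw [finsum_eq_sum_of_fintype, c.herm_apply, c.herm_apply, ← (blockEquiv i hi).sum_comp,
    Fintype.sum_sum_type]
  simp

theorem herm_blockMat (c : Conj F q) (i : ℕ) (hi : i + r ≤ m) (A : Matrix (Fin r) (Fin r) F)
    (hA : ∀ x y, Cfsg.hermForm r F q (A *ᵥ x) (A *ᵥ y) = Cfsg.hermForm r F q x y) (x y : Fin m → F) :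
    Cfsg.hermForm m F q (blockMat i hi A *ᵥ x) (blockMat i hi A *ᵥ y) = Cfsg.hermForm m F q x y := by
  rw [herm_split c i hi, herm_split c i hi x y]
  simp only [blockMat_shift]
  rw [hA]
  congr 1
  refine finsum_congr fun k => ?_
  rw [blockMat_other i hi A x k.2, blockMat_other i hi A y k.2]

/-- The embedding of the block on the coordinates from `i` on. -/
noncomputable def emb (c : Conj F q) (i : ℕ) (hi : i + r ≤ m) : SUg r F q →* SUg m F q where
  toFun g := mk (blockMat i hi (mat g)) (by rw [det_blockMat]; exact g.1.2)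
    (herm_blockMat c i hi _ g.2)
  map_one' := Subtype.ext (Subtype.ext (blockMat_one i hi))
  map_mul' g h := Subtype.ext (Subtype.ext (blockMat_mul i hi (mat g) (mat h)))

theorem act_emb_shift (c : Conj F q) (i : ℕ) (hi : i + r ≤ m) (g : SUg r F q) (x : Fin m → F)
    (a : Fin r) : act (emb c i hi g) x (shift i hi a) = act g (fun b => x (shift i hi b)) a :=
  blockMat_shift i hi _ x a

theorem act_emb_other (c : Conj F q) (i : ℕ) (hi : i + r ≤ m) (g : SUg r F q) (x : Fin m → F)
    {k : Fin m} (hk : (k : ℕ) < i ∨ i + r ≤ k) : act (emb c i hi g) x k = x k :=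
  blockMat_other i hi _ x ((notMem_range_shift i hi).2 hk)

theorem emb_injective (c : Conj F q) (i : ℕ) (hi : i + r ≤ m) :
    Function.Injective (emb (r := r) c i hi : SUg r F q →* SUg m F q) := by
  intro g h e
  refine ext_act fun k => funext fun a => ?_
  have he := congrArg
    (fun z => act z (Pi.single (shift i hi k) 1) (shift i hi a)) e
  simp only [act_emb_shift] at he
  have hs : (fun b => (Pi.single (shift i hi k) (1 : F) : Fin m → F) (shift i hi b)) = Pi.single k 1 := by
    funext b
    simp [Pi.single_apply, (shift_injective i hi).eq_iff]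
  rwa [hs] at he

/-- The elements fixing every coordinate vector outside the given range. -/
def Blk (c : Conj F q) (m i r : ℕ) : Subgroup (SUg m F q) where
  carrier := {g | ∀ k : Fin m, (k : ℕ) < i ∨ i + r ≤ k → act g (Pi.single k 1) = Pi.single k 1}
  one_mem' := fun k _ => by simp
  mul_mem' := fun {a b} ha hb k hk => by rw [act_mul, hb k hk, ha k hk]
  inv_mem' := fun {a} ha k hk => by conv_lhs => rw [← ha k hk, act_inv_act]

theorem mem_Blk (c : Conj F q) {i : ℕ} {g : SUg m F q} : g ∈ Blk c m i r ↔
    ∀ k : Fin m, (k : ℕ) < i ∨ i + r ≤ k → act g (Pi.single k 1) = Pi.single k 1 := Iff.rfl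

theorem Blk_mono (c : Conj F q) {i i' r' : ℕ} (h : i' ≤ i) (h' : i + r ≤ i' + r') :
    Blk c m i r ≤ Blk c m i' r' := fun _ hg k hk => hg k (by omega)

/-- An element fixing a coordinate vector keeps that coordinate. -/
theorem act_coord (c : Conj F q) {g : SUg m F q} {k : Fin m} (hg : act g (Pi.single k 1) = Pi.single k 1)
    (x : Fin m → F) : act g x k = x k := by
  rw [← c.single_right (act g x) k]
  conv_lhs => rw [← hg, herm_act, c.single_right]

theorem act_eq_sum (g : SUg m F q) (x : Fin m → F) :
    act g x = ∑ k, x k • act g (Pi.single k 1) := by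
  funext l
  simp only [Finset.sum_apply, Pi.smul_apply, act_single, smul_eq_mul]
  show ∑ k, mat g l k * x k = _
  exact Finset.sum_congr rfl fun k _ => mul_comm (mat g l k) (x k)

theorem act_fix_of_support {g : SUg m F q} {x : Fin m → F}
    (h : ∀ k, act g (Pi.single k 1) = Pi.single k 1 ∨ x k = 0) : act g x = x := by
  rw [act_eq_sum, show x = ∑ k, x k • (Pi.single k 1 : Fin m → F) by
    funext l; simp [Pi.single_apply]]
  refine Finset.sum_congr rfl fun k _ => ?_
  rcases h k with e | e
  · simp [e, Pi.single_apply]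
  · simp [e, Pi.single_apply]

theorem emb_mem_Blk (c : Conj F q) (i : ℕ) (hi : i + r ≤ m) (g : SUg r F q) :
    emb c i hi g ∈ Blk c m i r := by
  intro k hk
  funext l
  by_cases hl : l ∈ Set.range (shift (r := r) (m := m) i hi)
  · obtain ⟨a, rfl⟩ := hl
    have hne : ∀ b, shift i hi b ≠ k := fun b e =>
      (notMem_range_shift i hi).2 hk ⟨b, e⟩
    rw [act_emb_shift, show (fun b => (Pi.single k (1 : F) : Fin m → F) (shift i hi b)) = 0 from
      funext fun b => by simp [hne b], act_zero]
    simp [hne a]
  · exact act_emb_other c i hi g _ ((notMem_range_shift i hi).1 hl)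

theorem range_emb (c : Conj F q) (i : ℕ) (hi : i + r ≤ m) :
    (emb (r := r) c i hi).range = Blk c m i r := by
  classical
  refine le_antisymm (by rintro _ ⟨g, rfl⟩; exact emb_mem_Blk c i hi g) fun g hg => ?_
  let A : Matrix (Fin r) (Fin r) F := fun a b => mat g (shift i hi a) (shift i hi b)
  have hAg : blockMat i hi A = mat g := by
    refine Matrix.ext_of_mulVec_single fun k => funext fun l => ?_
    by_cases hl : l ∈ Set.range (shift (r := r) (m := m) i hi)
    · obtain ⟨a, rfl⟩ := hl
      rw [blockMat_shift]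
      by_cases hk : k ∈ Set.range (shift (r := r) (m := m) i hi)
      · obtain ⟨b, rfl⟩ := hk
        simp [A, Matrix.mulVec, dotProduct, Pi.single_apply, (shift_injective i hi).eq_iff]
      · have hne : ∀ b, shift i hi b ≠ k := fun b e => hk ⟨b, e⟩
        have := congrFun (hg k ((notMem_range_shift i hi).1 hk)) (shift i hi a)
        rw [show (fun b => (Pi.single k (1 : F) : Fin m → F) (shift i hi b)) = 0 from
          funext fun b => by simp [hne b], mulVec_zero]
        show (0 : F) = act g (Pi.single k 1) (shift i hi a)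
        rw [this]; simp [hne a]
    · rw [blockMat_other i hi A _ hl]
      exact (act_coord c (hg l ((notMem_range_shift i hi).1 hl)) _).symm
  have hdet : A.det = 1 := by rw [← det_blockMat i hi, hAg]; exact g.1.2
  have hA : ∀ x y, Cfsg.hermForm r F q (A *ᵥ x) (A *ᵥ y) = Cfsg.hermForm r F q x y := by
    intro x y
    let ext : (Fin r → F) → Fin m → F := fun x k =>
      Sum.elim x (fun _ => 0) ((blockEquiv i hi).symm k)
    have hs : ∀ (x : Fin r → F) a, ext x (shift i hi a) = x a := fun x a => by
      simp only [ext]; rw [← blockEquiv_inl, Equiv.symm_apply_apply]; rfl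
    have ho : ∀ (x : Fin r → F) (k : ↥(Set.range (shift (r := r) (m := m) i hi))ᶜ), ext x k = 0 :=
      fun x k => by
        simp only [ext]; rw [← blockEquiv_inr i hi k, Equiv.symm_apply_apply]; rfl
    have h := g.2 (ext x) (ext y)
    change Cfsg.hermForm m F q (mat g *ᵥ ext x) (mat g *ᵥ ext y) = _ at h
    rw [← hAg, herm_split c i hi, herm_split c i hi (ext x)] at h
    simp only [blockMat_shift, hs] at h
    have hz : ∀ k : ↥(Set.range (shift (r := r) (m := m) i hi))ᶜ,
        (blockMat i hi A *ᵥ ext x) k = 0 := fun k => by rw [blockMat_other i hi A _ k.2, ho]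
    simpa [hz, ho] using h
  exact ⟨mk A hdet hA, Subtype.ext (Subtype.ext hAg)⟩

/-- The embedding of a block in a block. -/
theorem emb_emb {r' : ℕ} (c : Conj F q) (i : ℕ) (hi : i + r ≤ m) (j : ℕ) (hj : j + r' ≤ r)
    (g : SUg r' F q) : emb c i hi (emb c j hj g) = emb c (i + j) (by omega) g := by
  refine ext_act fun k => funext fun l => ?_
  by_cases hl : l ∈ Set.range (shift (r := r') (m := m) (i + j) (by omega))
  · obtain ⟨a, rfl⟩ := hl
    have e : shift (i + j) (by omega) a = shift i hi (shift j hj a : Fin r) :=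
      Fin.ext (show i + j + (a : ℕ) = i + (j + a) by omega)
    rw [act_emb_shift c (i + j)]
    conv_lhs => rw [e, act_emb_shift, act_emb_shift]
    congr 2
    funext b
    exact congrArg _ (Fin.ext (show i + (j + (b : ℕ)) = i + j + b by omega))
  · have hl' := (notMem_range_shift (i + j) (by omega)).1 hl
    rw [act_emb_other c (i + j) _ g _ hl']
    by_cases hi' : l ∈ Set.range (shift (r := r) (m := m) i hi)
    · obtain ⟨a, rfl⟩ := hi'
      rw [act_emb_shift, act_emb_other c j hj g _ (by simp only [shift] at hl'; omega)]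
    · exact act_emb_other c i hi _ _ ((notMem_range_shift i hi).1 hi')

theorem suBlock_eq (c : Conj F q) {s : Set (Fin m)} (i : ℕ)
    (hs : ∀ k : Fin m, k ∈ s ↔ i ≤ (k : ℕ) ∧ (k : ℕ) < i + r) :
    Cfsg.suBlock m F q s = Blk c m i r := by
  have hk' : ∀ k : Fin m, k ∉ s ↔ (k : ℕ) < i ∨ i + r ≤ k := fun k => by rw [hs]; omega
  have hset : {A : Cfsg.SU m F q | ∀ k : Fin m, k ∉ s →
      ((A : Matrix.SpecialLinearGroup (Fin m) F) : Matrix (Fin m) (Fin m) F) k k = 1 ∧
        ∀ l : Fin m, l ≠ k →
          ((A : Matrix.SpecialLinearGroup (Fin m) F) : Matrix (Fin m) (Fin m) F) k l = 0 ∧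
            ((A : Matrix.SpecialLinearGroup (Fin m) F) : Matrix (Fin m) (Fin m) F) l k = 0} =
      (Blk c m i r : Set (SUg m F q)) := by
    ext g
    simp only [Set.mem_setOf_eq, SetLike.mem_coe, mem_Blk, hk']
    constructor
    · intro h k hk
      obtain ⟨h1, h2⟩ := h k hk
      funext l
      rw [act_single]
      by_cases hl : l = k
      · subst hl; simpa using h1
      · simpa [hl] using (h2 l hl).2
    · intro h k hk
      have hg := h k hk
      refine ⟨by simpa [act_single] using congrFun hg k, fun l hl => ⟨?_, ?_⟩⟩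
      · have := act_coord c hg (Pi.single l 1)
        rw [act_single] at this
        simpa [Ne.symm hl] using this
      · simpa [act_single, hl] using congrFun hg l
  rw [Cfsg.suBlock, hset, Subgroup.closure_eq]

end CfsgLib.SUAmalgam
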