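/-
Moving vectors with the two-dimensional special unitary group.
-/
import Cfsg.Agent.Lib.SUAmalgam.Basic

set_option autoImplicit false
set_option linter.unusedSectionVars false

open Matrix

namespace CfsgLib.SUAmalgam

open CfsgLib.ClassicalForms

variable {F : Type*} [Field F] {q m : ℕ} (c : Conj F q)

/-- The norm. -/
def nm (x : F) : F := x * c.σ x

@[simp] theorem nm_zero : nm c 0 = 0 := by simp [nm]

@[simp] theorem nm_one : nm c 1 = 1 := by simp [nm]

@[simp] theorem nm_neg (x : F) : nm c (-x) = nm c x := by simp [nm]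

@[simp] theorem nm_conj (x : F) : nm c (c.σ x) = nm c x := by simp [nm, c.invol, mul_comm]

theorem nm_mul (x y : F) : nm c (x * y) = nm c x * nm c y := by simp [nm]; ring

theorem nm_div (x y : F) : nm c (x / y) = nm c x / nm c y := by simp [nm, div_mul_div_comm]

theorem nm_fixed (x : F) : c.σ (nm c x) = nm c x := by simp [nm, c.invol, mul_comm]

theorem nm_eq_zero {x : F} : nm c x = 0 ↔ x = 0 := by
  constructor
  · intro h
    rcases mul_eq_zero.1 h with h | h
    exacts [h, c.eq_zero h]
  · rintro rfl; simp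

theorem herm_two (x y : Fin 2 → F) :
    Cfsg.hermForm 2 F q x y = x 0 * c.σ (y 0) + x 1 * c.σ (y 1) := by
  simp [c.herm_apply, Fin.sum_univ_two]

/-- The element of the two-dimensional group with the given first column. -/
def sb (a b : F) (h : nm c a + nm c b = 1) : SUg 2 F q :=
  mk !![a, -c.σ b; b, c.σ a]
    (by rw [Matrix.det_fin_two_of]; simp only [nm] at h; linear_combination h)
    (fun x y => by
      simp only [herm_two c, Matrix.mulVec, dotProduct, Fin.sum_univ_two, Matrix.of_apply,
        Matrix.cons_val', Matrix.cons_val_zero, Matrix.cons_val_one, Matrix.cons_val_fin_one,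
        map_add, map_mul, map_neg, c.invol]
      simp only [nm] at h
      linear_combination (x 0 * c.σ (y 0) + x 1 * c.σ (y 1)) * h)

theorem act_sb (a b : F) (h : nm c a + nm c b = 1) (x : Fin 2 → F) :
    act (sb c a b h) x = ![a * x 0 - c.σ b * x 1, b * x 0 + c.σ a * x 1] := by
  funext i
  fin_cases i <;>
    simp [act, sb, Matrix.mulVec, dotProduct, Fin.sum_univ_two, sub_eq_add_neg]

variable [Finite F]

theorem exists_nm {k : F} (hk : c.σ k = k) : ∃ x, nm c x = k := c.exists_norm hk

/-- Transitivity on the vectors of a given nonzero norm. -/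
theorem exists_frame {a b a' b' : F} (hne : nm c a + nm c b ≠ 0)
    (h : nm c a' + nm c b' = nm c a + nm c b) : ∃ g : SUg 2 F q, act g ![a, b] = ![a', b'] := by
  obtain ⟨l, hl⟩ := exists_nm c (k := nm c a + nm c b) (by rw [map_add, nm_fixed, nm_fixed])
  have hl0 : l ≠ 0 := fun e => hne (by rw [← hl, e, nm_zero])
  have col : ∀ a b : F, nm c a + nm c b = nm c l → ∃ g : SUg 2 F q, act g ![l, 0] = ![a, b] := by
    intro a b hab
    refine ⟨sb c (a / l) (b / l) (by
      rw [nm_div, nm_div, ← add_div, hab, div_self]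
      exact fun e => hl0 ((nm_eq_zero c).1 e)), ?_⟩
    rw [act_sb]
    simp [hl0]
  obtain ⟨g, hg⟩ := col a b hl.symm
  obtain ⟨g', hg'⟩ := col a' b' (by rw [h, hl])
  exact ⟨g' * g⁻¹, by rw [act_mul, ← hg, act_inv_act, hg']⟩

/-- Prescribing the norm of the first coordinate. -/
theorem exists_first_norm (a b k : F) (hne : a ≠ 0 ∨ b ≠ 0) (hk : c.σ k = k)
    (hiso : nm c a + nm c b = 0 → k ≠ 0) :
    ∃ g : SUg 2 F q, nm c (act g ![a, b] 0) = k := by
  by_cases h : nm c a + nm c b = 0
  swap
  · obtain ⟨u, hu⟩ := exists_nm c hk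
    obtain ⟨v, hv⟩ := exists_nm c (k := nm c a + nm c b - k)
      (by rw [map_sub, map_add, nm_fixed, nm_fixed, hk])
    obtain ⟨g, hg⟩ := exists_frame c h (a' := u) (b' := v) (by rw [hu, hv]; ring)
    exact ⟨g, by rw [hg]; exact hu⟩
  have hk0 := hiso h
  have ha : a ≠ 0 := by
    rintro rfl
    rw [nm_zero, zero_add, nm_eq_zero] at h
    exact hne.elim (fun h' => h' rfl) (fun h' => h' h)
  have hb : b ≠ 0 := by
    rintro rfl
    rw [nm_zero, add_zero, nm_eq_zero] at h
    exact ha h
  obtain ⟨u, hu⟩ := exists_nm c hk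
  have hu0 : u ≠ 0 := fun e => hk0 (by rw [← hu, e, nm_zero])
  obtain ⟨θ, hθ⟩ := c.exists_trace_one
  have hd : b * c.σ u ≠ 0 := mul_ne_zero hb (fun e => hu0 (c.eq_zero e))
  set B := θ * (nm c a - nm c u) / (b * c.σ u) with hB
  have hB1 : B * (b * c.σ u) = θ * (nm c a - nm c u) := div_mul_cancel₀ _ hd
  have hB2 : c.σ B * (c.σ b * u) = c.σ θ * (nm c a - nm c u) := by
    have := congrArg c.σ hB1
    rwa [map_mul, map_mul, map_mul, map_sub, nm_fixed, nm_fixed, c.invol] at this
  have hsum : nm c ((u + B * b) / a) + nm c (c.σ B) = 1 := by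
    rw [nm_div, nm_conj, div_add' _ _ _ (fun e => ha ((nm_eq_zero c).1 e)),
      div_eq_one_iff_eq (fun e => ha ((nm_eq_zero c).1 e))]
    simp only [nm, map_add, map_mul] at h hB1 hB2 ⊢
    linear_combination (B * c.σ B) * h + hB1 + hB2 + (a * c.σ a - u * c.σ u) * hθ
  refine ⟨sb c _ _ hsum, ?_⟩
  rw [act_sb, c.invol]
  simp [ha, hu]

/-- Avoiding norm one in the first coordinate for two vectors at once. -/
theorem exists_two_rows [Fintype F] (hF : Nat.card F = q ^ 2) (hq : 3 < q) (a b a' b' : F) :
    ∃ g : SUg 2 F q, nm c (act g ![a, b] 0) ≠ 1 ∧ nm c (act g ![a', b'] 0) ≠ 1 := by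
  classical
  -- the forbidden norms of the first entry of the row
  let bad : F → F → Finset F := fun a b =>
    if a = 0 then {1 - (nm c b)⁻¹} else if b = 0 then {(nm c a)⁻¹} else {0, 1}
  have hbad : ∀ a b k : F, k ∉ bad a b → (k = 0 ∨ k = 1 ∨ a = 0 ∨ b = 0) →
      k * nm c a + (1 - k) * nm c b ≠ 1 := by
    intro a b k hk hdeg he
    by_cases ha : a = 0
    · subst ha
      simp only [bad, if_pos rfl, Finset.mem_singleton] at hk
      rw [nm_zero, mul_zero, zero_add] at he
      exact hk (by rw [← eq_inv_of_mul_eq_one_left he]; ring)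
    by_cases hb : b = 0
    · subst hb
      simp only [bad, if_neg ha, ↓reduceIte, Finset.mem_singleton] at hk
      rw [nm_zero, mul_zero, add_zero] at he
      exact hk (eq_inv_of_mul_eq_one_left he)
    simp only [bad, if_neg ha, if_neg hb, Finset.mem_insert, Finset.mem_singleton, not_or] at hk
    simp [ha, hb, hk.1, hk.2] at hdeg
  have hcard : (bad a b ∪ bad a' b').card ≤ 3 := by
    simp only [bad]
    split_ifs
    all_goals first
      | (rw [Finset.union_self]; exact le_trans Finset.card_le_two (by norm_num))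
      | exact le_trans (Finset.card_union_le _ _) (by
          simp only [Finset.card_singleton]
          have := Finset.card_le_two (a := (0 : F)) (b := 1)
          omega)
  have hfix : (Finset.univ.filter fun x : F => c.σ x = x).card = q := by
    have hs : ∀ x : F, (∃ y, nm c y = x) ↔ c.σ x = x :=
      fun x => ⟨fun ⟨y, hy⟩ => hy ▸ nm_fixed c y, exists_nm c⟩
    have hu : (Finset.univ.filter fun x : F => c.σ x = x) =
        insert 0 (Finset.univ.filter fun x : F => x ^ (q - 1) = 1) := by
      ext x
      have hq1 : q = q - 1 + 1 := by omega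
      by_cases hx : x = 0
      · simp [hx]
      · simp only [Finset.mem_filter, Finset.mem_univ, true_and, Finset.mem_insert, hx, false_or,
          c.apply]
        conv_lhs => rw [hq1, pow_succ]
        exact mul_eq_right₀ hx
    have h0 : (0 : F) ∉ Finset.univ.filter fun x : F => x ^ (q - 1) = 1 := by
      simp [zero_pow (by omega : q - 1 ≠ 0)]
    rw [hu, Finset.card_insert_of_notMem h0]
    have h1 := card_units_pow_eq_one hF (q - 1)
    rw [Nat.gcd_eq_right (Dvd.intro_left _ rfl)] at h1
    have e : {x : Fˣ // x ^ (q - 1) = 1} ≃ {x : F // x ^ (q - 1) = 1} :=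
      { toFun := fun x => ⟨x.1, by rw [← Units.val_pow_eq_pow_val, x.2, Units.val_one]⟩
        invFun := fun x => ⟨Units.mk0 x.1 (fun e => by
          have := x.2; rw [e, zero_pow (by omega : q - 1 ≠ 0)] at this; exact zero_ne_one this),
          Units.ext (by simpa using x.2)⟩
        left_inv := fun x => Subtype.ext (Units.ext rfl)
        right_inv := fun x => rfl }
    rw [Nat.card_congr e, Nat.card_eq_fintype_card, Fintype.card_subtype] at h1
    omega
  obtain ⟨k, hk, hkb⟩ := Finset.exists_mem_notMem_of_card_lt_card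
    (s := bad a b ∪ bad a' b') (t := Finset.univ.filter fun x : F => c.σ x = x)
    (by rw [hfix]; omega)
  simp only [Finset.mem_filter, Finset.mem_univ, true_and] at hk
  simp only [Finset.mem_union, not_or] at hkb
  obtain ⟨A, hA⟩ := exists_nm c hk
  obtain ⟨B, hB⟩ := exists_nm c (k := 1 - k) (by rw [map_sub, map_one, hk])
  -- the phases
  let S : Finset F := Finset.univ.filter fun e : F => e * c.σ e = 1
  have hS : S.card = q + 1 := by
    have h1 := card_norm_fibre hF c 1 (map_one _)
    rw [if_neg one_ne_zero, Nat.card_eq_fintype_card, Fintype.card_subtype] at h1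
    exact h1
  let val : F → F → F → F := fun a b e => nm c (A * a + B * e * b)
  have key : ∀ a b : F, k ∉ bad a b → (S.filter fun e => val a b e = 1).card ≤ 2 := by
    intro a b hkn
    set u := B * b * c.σ (A * a) with hu
    set D := k * nm c a + (1 - k) * nm c b - 1 with hD
    have hpoly : ∀ e ∈ S.filter (fun e => val a b e = 1), u * e * e + D * e + c.σ u = 0 := by
      intro e he
      obtain ⟨he1, he2⟩ := Finset.mem_filter.1 he
      replace he1 : e * c.σ e = 1 := (Finset.mem_filter.1 he1).2
      replace he2 : nm c (A * a + B * e * b) = 1 := he2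
      simp only [nm] at he2
      simp only [hu, hD, nm, map_mul, map_add, c.invol] at he2 ⊢
      simp only [nm] at hA hB
      linear_combination e * he2 - (e * a * c.σ a) * hA - (e * b * c.σ b) * hB -
        (A * a * c.σ B * c.σ b + B * c.σ B * b * c.σ b * e) * he1
    by_contra hlt
    obtain ⟨e₁, e₂, e₃, h1, h2, h3, h12, h13, h23⟩ := Finset.two_lt_card_iff.1 (not_le.1 hlt)
    have p1 := hpoly e₁ h1
    have p2 := hpoly e₂ h2
    have p3 := hpoly e₃ h3
    have q12 : u * (e₁ + e₂) + D = 0 := by
      have : (e₁ - e₂) * (u * (e₁ + e₂) + D) = 0 := by linear_combination p1 - p2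
      exact (mul_eq_zero.1 this).resolve_left (sub_ne_zero.2 h12)
    have q13 : u * (e₁ + e₃) + D = 0 := by
      have : (e₁ - e₃) * (u * (e₁ + e₃) + D) = 0 := by linear_combination p1 - p3
      exact (mul_eq_zero.1 this).resolve_left (sub_ne_zero.2 h13)
    have hu0 : u = 0 := by
      have : u * (e₂ - e₃) = 0 := by linear_combination q12 - q13
      exact (mul_eq_zero.1 this).resolve_right (sub_ne_zero.2 h23)
    rw [hu0, zero_mul, zero_add] at q12
    refine hbad a b k hkn ?_ (sub_eq_zero.1 q12)
    rcases mul_eq_zero.1 hu0 with h | h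
    · rcases mul_eq_zero.1 h with h | h
      · right; left
        rw [h, nm_zero] at hB
        exact (sub_eq_zero.1 hB.symm).symm
      · exact Or.inr (Or.inr (Or.inr h))
    · rcases mul_eq_zero.1 (c.eq_zero h) with h | h
      · left; rw [← hA, h, nm_zero]
      · exact Or.inr (Or.inr (Or.inl h))
  obtain ⟨e, he, hne⟩ := Finset.exists_mem_notMem_of_card_lt_card
    (s := (S.filter fun e => val a b e = 1) ∪ (S.filter fun e => val a' b' e = 1)) (t := S)
    (by
      have := Finset.card_union_le (S.filter fun e => val a b e = 1)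
        (S.filter fun e => val a' b' e = 1)
      have := key a b hkb.1
      have := key a' b' hkb.2
      omega)
  simp only [Finset.mem_union, Finset.mem_filter, he, true_and, not_or] at hne
  have hrow : nm c A + nm c (-c.σ (B * e)) = 1 := by
    simp only [S, Finset.mem_filter, Finset.mem_univ, true_and] at he
    rw [nm_neg, nm_conj, nm_mul, hA, hB, show nm c e = 1 from he]
    ring
  refine ⟨sb c A _ hrow, ?_, ?_⟩ <;> rw [act_sb]
  · simpa [val, c.invol, sub_eq_add_neg] using hne.1
  · simpa [val, c.invol, sub_eq_add_neg] using hne.2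

/-! ### Moves in consecutive coordinates -/

/-- A vector with two consecutive coordinates replaced. -/
theorem act_two_coord (i : ℕ) (hi : i + 2 ≤ m) (g : SUg 2 F q) (x : Fin m → F) :
    act (emb c i hi g) x ⟨i, by omega⟩ = act g ![x ⟨i, by omega⟩, x ⟨i + 1, by omega⟩] 0 ∧
      act (emb c i hi g) x ⟨i + 1, by omega⟩ = act g ![x ⟨i, by omega⟩, x ⟨i + 1, by omega⟩] 1 ∧
      ∀ k : Fin m, (k : ℕ) < i ∨ i + 2 ≤ k → act (emb c i hi g) x k = x k := by
  have hx : (fun b => x (shift i hi b)) = ![x ⟨i, by omega⟩, x ⟨i + 1, by omega⟩] := by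
    funext b; fin_cases b <;> rfl
  refine ⟨?_, ?_, fun k hk => act_emb_other c i hi g x hk⟩
  · rw [← hx, ← act_emb_shift c i hi g x 0]; rfl
  · rw [← hx, ← act_emb_shift c i hi g x 1]; rfl

end CfsgLib.SUAmalgam
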