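/-
Automorphisms of the two-dimensional special unitary group normalising the diagonal torus.
-/
import Cfsg.Agent.Lib.SUAmalgam.Moves
import Cfsg.Agent.Lib.ClassicalForms.Unitary.Two
import Cfsg.Agent.Lib.ReflectionsSpinor.PSLAutMain
import Cfsg.Agent.Lib.ClassicalLinear.Card

set_option autoImplicit false
set_option linter.unusedSectionVars false

open Matrix
open scoped commutatorElement

namespace CfsgLib.SUAmalgam

open CfsgLib.ClassicalForms

universe u

variable {F : Type u} [Field F] [Finite F] {q : ℕ}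

/-- A ring automorphism of the fixed field extends. -/
theorem exists_extend (c : Conj F q) (s : c.fixed ≃+* c.fixed) :
    ∃ τ : F ≃+* F, ∀ x : c.fixed, τ x = s x := by
  obtain ⟨p, hp⟩ := CharP.exists F
  haveI := hp
  haveI hpr : Fact p.Prime := ⟨CharP.char_is_prime F p⟩
  haveI hpK : CharP c.fixed p := (RingHom.charP_iff c.fixed.subtype c.fixed.subtype.injective p).2 hp
  letI : Algebra (ZMod p) c.fixed := ZMod.algebra c.fixed p
  haveI : Finite c.fixed := inferInstance
  let f : c.fixed ≃ₐ[ZMod p] c.fixed := AlgEquiv.ofRingEquiv (f := s) fun r => by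
    have h : s.toRingHom.comp (algebraMap (ZMod p) c.fixed) = algebraMap (ZMod p) c.fixed :=
      Subsingleton.elim _ _
    exact congrArg (fun φ : ZMod p →+* c.fixed => φ r) h
  obtain ⟨n, hn⟩ := (FiniteField.bijective_frobeniusAlgEquivOfAlgebraic_pow (ZMod p) c.fixed).2 f
  refine ⟨iterateFrobeniusEquiv F p n.1, fun x => ?_⟩
  rw [iterateFrobeniusEquiv_def]
  have h : s x = x ^ p ^ n.1 := by
    rw [show s x = f x from rfl, ← hn]
    simp [AlgEquiv.coe_pow, FiniteField.coe_frobeniusAlgEquivOfAlgebraic, pow_iterate]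
  rw [h]
  push_cast
  rfl

/-- The model of the group as a conjugate of the special linear group of the fixed field. -/
theorem exists_model (hF : Nat.card F = q ^ 2) (c : Conj F q) :
    ∃ (P : GL (Fin 2) F) (ψ : Matrix.SpecialLinearGroup (Fin 2) c.fixed ≃* SUg 2 F q),
      ∀ M, mat (ψ M) = (P : Matrix (Fin 2) (Fin 2) F) *
        (M : Matrix (Fin 2) (Fin 2) c.fixed).map c.fixed.subtype * ((P⁻¹ : GL (Fin 2) F) : Matrix _ _ F) := by
  classical
  have := Fintype.ofFinite c.fixed
  obtain ⟨ε, u, v, hε, hσε, huu, hvv, huv⟩ := exists_iso_basis hF c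
  have hvu : Cfsg.hermForm 2 F q v u = -ε := by rw [c.herm_symm, huv, hσε]
  set P : Matrix (Fin 2) (Fin 2) F := !![u 0, v 0; u 1, v 1] with hP
  have hPv : ∀ x : Fin 2 → F, P *ᵥ x = x 0 • u + x 1 • v := fun x => by
    funext i
    fin_cases i <;> simp [hP, Matrix.mulVec, dotProduct, Fin.sum_univ_two] <;> ring
  have hB : ∀ x y : Fin 2 → F, Cfsg.hermForm 2 F q (P *ᵥ x) (P *ᵥ y)
      = ε * (x 0 * c.σ (y 1) - x 1 * c.σ (y 0)) := fun x y => by
    rw [hPv, hPv, c.add_left, c.add_right, c.add_right, c.smul_left, c.smul_left, c.smul_left,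
      c.smul_left, c.smul_right, c.smul_right, c.smul_right, c.smul_right, huu, hvv, huv, hvu]
    ring
  have hdetP : P.det ≠ 0 := fun h => by
    obtain ⟨x, hx0, hx⟩ := Matrix.exists_mulVec_eq_zero_iff.2 h
    refine hx0 (funext fun i => ?_)
    have h1 := hB x ![1, 0]
    have h2 := hB x ![0, 1]
    rw [hx, c.zero_left] at h1 h2
    simp [hε] at h1 h2
    fin_cases i
    · exact h2
    · exact h1
  set Pu : GL (Fin 2) F := Matrix.GeneralLinearGroup.mkOfDetNeZero P hdetP with hPu
  let ι : c.fixed →+* F := c.fixed.subtype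
  have hι : ∀ x : c.fixed, c.σ (ι x) = ι x := fun x => x.2
  let A : Matrix.SpecialLinearGroup (Fin 2) c.fixed → Matrix (Fin 2) (Fin 2) F := fun M =>
    (Pu : Matrix (Fin 2) (Fin 2) F) * (M : Matrix (Fin 2) (Fin 2) c.fixed).map ι *
      ((Pu⁻¹ : GL (Fin 2) F) : Matrix _ _ F)
  have hdet : ∀ M, (A M).det = 1 := fun M => by
    show ((Pu : Matrix (Fin 2) (Fin 2) F) * _ * _).det = 1
    rw [Matrix.det_units_conj]
    exact (Matrix.SpecialLinearGroup.map ι M).2
  have hpres : ∀ M x y, Cfsg.hermForm 2 F q (A M *ᵥ x) (A M *ᵥ y) = Cfsg.hermForm 2 F q x y := by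
    intro M x y
    obtain ⟨x', rfl⟩ : ∃ x', P *ᵥ x' = x := ⟨((Pu⁻¹ : GL (Fin 2) F) : Matrix _ _ F) *ᵥ x, by
      rw [Matrix.mulVec_mulVec, show P = (Pu : Matrix (Fin 2) (Fin 2) F) from rfl, Units.mul_inv,
        Matrix.one_mulVec]⟩
    obtain ⟨y', rfl⟩ : ∃ y', P *ᵥ y' = y := ⟨((Pu⁻¹ : GL (Fin 2) F) : Matrix _ _ F) *ᵥ y, by
      rw [Matrix.mulVec_mulVec, show P = (Pu : Matrix (Fin 2) (Fin 2) F) from rfl, Units.mul_inv,
        Matrix.one_mulVec]⟩
    have hA : A M * P = P * (M : Matrix (Fin 2) (Fin 2) c.fixed).map ι := by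
      show (Pu : Matrix (Fin 2) (Fin 2) F) * _ * _ * (Pu : Matrix (Fin 2) (Fin 2) F) = _
      rw [Matrix.mul_assoc _ _ (Pu : Matrix (Fin 2) (Fin 2) F), Units.inv_mul, Matrix.mul_one]
      rfl
    rw [Matrix.mulVec_mulVec, Matrix.mulVec_mulVec, hA, ← Matrix.mulVec_mulVec,
      ← Matrix.mulVec_mulVec, hB, hB]
    have hd : ι (M.1 0 0) * ι (M.1 1 1) - ι (M.1 0 1) * ι (M.1 1 0) = 1 := by
      rw [← map_mul, ← map_mul, ← map_sub, ← Matrix.det_fin_two, M.2, map_one]
    simp only [Matrix.mulVec, dotProduct, Fin.sum_univ_two, Matrix.map_apply, map_add, map_mul, hι]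
    linear_combination (ε * (x' 0 * c.σ (y' 1) - x' 1 * c.σ (y' 0))) * hd
  let ψ₀ : Matrix.SpecialLinearGroup (Fin 2) c.fixed →* SUg 2 F q :=
    { toFun := fun M => mk (A M) (hdet M) (hpres M)
      map_one' := Subtype.ext (Subtype.ext (by
        show A 1 = 1
        simp [A]))
      map_mul' := fun M N => Subtype.ext (Subtype.ext (by
        show A (M * N) = A M * A N
        simp [A, Matrix.mul_assoc])) }
  have hinj : Function.Injective ψ₀ := fun M N h => by
    have h' : A M = A N := congrArg mat h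
    simp only [A] at h'
    rw [Units.mul_left_inj, Units.mul_right_inj] at h'
    ext i j
    exact congrFun (congrFun h' i) j
  obtain ⟨e⟩ := nonempty_su_two_equiv (F := F) (K := c.fixed) hF (c.card_fixed hF)
  exact ⟨Pu, MulEquiv.ofBijective ψ₀ ((Nat.bijective_iff_injective_and_card ψ₀).2
    ⟨hinj, (Nat.card_congr e.toEquiv).symm⟩), fun M => rfl⟩

/-- The automorphisms of the special linear group of degree two. -/
theorem exists_semiSL {K : Type u} [Field K] [Finite K] (h4 : 4 ≤ Nat.card K)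
    (φ : Matrix.SpecialLinearGroup (Fin 2) K ≃* Matrix.SpecialLinearGroup (Fin 2) K) :
    ∃ (g : GL (Fin 2) K) (s : K ≃+* K), ∀ x, φ x = ReflectionsSpinor.PSL.semiSLHom g s x := by
  classical
  have := Fintype.ofFinite K
  obtain ⟨g, s, h⟩ := ReflectionsSpinor.PSL.exists_semiAut (n := 2) le_rfl
    (QuotientGroup.congr _ _ φ (ReflectionsSpinor.PSL.map_center φ))
  rcases h with h | ⟨h3, -⟩
  swap
  · omega
  refine ⟨g, s, fun x => ?_⟩
  set θ := ReflectionsSpinor.PSL.semiSLHom g s with hθ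
  have hc : ∀ x, (θ x)⁻¹ * φ x ∈ Subgroup.center (Matrix.SpecialLinearGroup (Fin 2) K) := fun x => by
    have h1 := DFunLike.congr_fun h (QuotientGroup.mk x)
    rw [QuotientGroup.congr_mk] at h1
    exact QuotientGroup.eq.1 h1.symm
  have htop := ClassicalLinear.commutator_sl_eq_top (ι := Fin 2) (F := K)
    (Or.inr (ClassicalLinear.exists_sq_ne_one_of_four_le_card h4))
  have hsplit : ∀ y, ∃ z ∈ Subgroup.center (Matrix.SpecialLinearGroup (Fin 2) K), φ y = θ y * z :=
    fun y => ⟨_, hc y, by rw [mul_inv_cancel_left]⟩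
  have hle : commutator (Matrix.SpecialLinearGroup (Fin 2) K) ≤
      MonoidHom.eqLocus φ.toMonoidHom θ := by
    rw [commutator_def, Subgroup.commutator_le]
    intro a _ b _
    show φ ⁅a, b⁆ = θ ⁅a, b⁆
    obtain ⟨za, hza, ea⟩ := hsplit a
    obtain ⟨zb, hzb, eb⟩ := hsplit b
    have ca : ∀ y, y * za = za * y := fun y => Subgroup.mem_center_iff.1 hza y
    have cb : ∀ y, y * zb = zb * y := fun y => Subgroup.mem_center_iff.1 hzb y
    rw [map_commutatorElement, map_commutatorElement, ea, eb]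
    simp only [commutatorElement_def, _root_.mul_inv_rev]
    calc θ a * za * (θ b * zb) * (za⁻¹ * (θ a)⁻¹) * (zb⁻¹ * (θ b)⁻¹)
        = θ a * (za * θ b) * (zb * (za⁻¹ * (θ a)⁻¹)) * zb⁻¹ * (θ b)⁻¹ := by simp only [mul_assoc]
      _ = θ a * (θ b * za) * ((za⁻¹ * (θ a)⁻¹) * zb) * zb⁻¹ * (θ b)⁻¹ := by
            rw [← ca (θ b), ← cb (za⁻¹ * (θ a)⁻¹)]
      _ = θ a * θ b * (θ a)⁻¹ * (θ b)⁻¹ := by simp [mul_assoc]
  exact hle (by rw [htop]; exact Subgroup.mem_top x)

theorem mat_sb (c : Conj F q) (a b : F) (h : nm c a + nm c b = 1) :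
    mat (sb c a b h) = !![a, -c.σ b; b, c.σ a] := rfl

/-- Diagonal elements. -/
def IsDiag₂ (g : SUg 2 F q) : Prop := mat g 0 1 = 0 ∧ mat g 1 0 = 0

theorem shape (c : Conj F q) (g : SUg 2 F q) :
    mat g 1 1 = c.σ (mat g 0 0) ∧ mat g 0 1 = -c.σ (mat g 1 0) := by
  have h1 := herm_act g (Pi.single 0 1) (Pi.single 0 1)
  have h2 := herm_act g (Pi.single 1 1) (Pi.single 0 1)
  simp [herm_two c, act_single] at h1 h2
  have hd : mat g 0 0 * mat g 1 1 - mat g 0 1 * mat g 1 0 = 1 :=
    (Matrix.det_fin_two (mat g)).symm.trans g.1.2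
  constructor
  · linear_combination c.σ (mat g 0 0) * hd - mat g 1 1 * h1 + mat g 1 0 * h2
  · linear_combination (-c.σ (mat g 1 0)) * hd - mat g 0 1 * h1 + mat g 0 0 * h2

/-- An automorphism normalising the torus is a diagonal semilinear one. -/
theorem exists_semi (c : Conj F q) (hF : Nat.card F = q ^ 2) (hq : 3 < q)
    (α : SUg 2 F q ≃* SUg 2 F q) (hD : ∀ g, IsDiag₂ g → IsDiag₂ (α g)) :
    ∃ (b : F) (τ : F ≃+* F), nm c b = 1 ∧ ∀ g, mat (α g) =
      Matrix.diagonal ![1, b] * (mat g).map τ * Matrix.diagonal ![1, c.σ b] := by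
  classical
  have := Fintype.ofFinite c.fixed
  obtain ⟨P, ψ, hψ⟩ := exists_model hF c
  obtain ⟨g₀, s, hs⟩ := exists_semiSL (K := c.fixed) (by rw [c.card_fixed hF]; omega)
    ((ψ.trans α).trans ψ.symm)
  obtain ⟨τ, hτ⟩ := exists_extend c s
  have hτc : ∀ x, τ (c.σ x) = c.σ (τ x) := fun x => by rw [c.apply, c.apply, map_pow]
  let gι : GL (Fin 2) F := Matrix.GeneralLinearGroup.map c.fixed.subtype g₀
  let Pτ : GL (Fin 2) F := Matrix.GeneralLinearGroup.map τ.toRingHom P
  set U : GL (Fin 2) F := P * gι * Pτ⁻¹ with hU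
  have hmain : ∀ g, mat (α g) * (U : Matrix (Fin 2) (Fin 2) F) =
      (U : Matrix (Fin 2) (Fin 2) F) * (mat g).map τ := by
    intro g
    obtain ⟨M, rfl⟩ := ψ.surjective g
    have h1 : α (ψ M) = ψ (ReflectionsSpinor.PSL.semiSLHom g₀ s M) := by
      rw [← hs M]; simp
    rw [h1, hψ, hψ, ReflectionsSpinor.PSL.coe_semiSLHom, Matrix.map_mul, Matrix.map_mul]
    have e2 : ((M : Matrix (Fin 2) (Fin 2) c.fixed).map s).map c.fixed.subtype =
        ((M : Matrix (Fin 2) (Fin 2) c.fixed).map c.fixed.subtype).map τ := by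
      ext i j; exact (hτ _).symm
    rw [e2, Matrix.map_mul, Matrix.map_mul]
    have e3 : (g₀ : Matrix (Fin 2) (Fin 2) c.fixed).map c.fixed.subtype =
        (gι : Matrix (Fin 2) (Fin 2) F) := rfl
    have e4 : ((g₀⁻¹ : GL (Fin 2) c.fixed) : Matrix (Fin 2) (Fin 2) c.fixed).map c.fixed.subtype =
        ((gι⁻¹ : GL (Fin 2) F) : Matrix _ _ F) := rfl
    have e5 : (P : Matrix (Fin 2) (Fin 2) F).map τ = (Pτ : Matrix (Fin 2) (Fin 2) F) := rfl
    have e6 : ((P⁻¹ : GL (Fin 2) F) : Matrix (Fin 2) (Fin 2) F).map τ =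
        ((Pτ⁻¹ : GL (Fin 2) F) : Matrix (Fin 2) (Fin 2) F) :=
      rfl
    rw [e3, e4, e5, e6, hU, Units.val_mul, Units.val_mul]
    simp [Matrix.mul_assoc]
  have hUdet : (U : Matrix (Fin 2) (Fin 2) F).det ≠ 0 :=
    (Matrix.GeneralLinearGroup.det U).ne_zero
  -- a torus element with distinct entries
  obtain ⟨t, ht, -, ht2⟩ := exists_norm_one_ne hF c
  have hts : nm c t + nm c (0 : F) = 1 := by rw [nm_zero, add_zero]; exact ht
  have htd : IsDiag₂ (sb c t 0 hts) := ⟨by simp [mat_sb], by simp [mat_sb]⟩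
  have e := hmain (sb c t 0 hts)
  obtain ⟨hd01, hd10⟩ := hD _ htd
  have hne : τ t ≠ c.σ (τ t) := fun h => ht2 (τ.injective (by
    rw [map_mul, map_one]
    conv_lhs => arg 2; rw [h]
    rw [← hτc, ← map_mul, ht, map_one]))
  have e' := fun i j => congrFun (congrFun e i) j
  have e00 := e' 0 0
  have e01 := e' 0 1
  have e10 := e' 1 0
  have e11 := e' 1 1
  simp [Matrix.mul_apply, Fin.sum_univ_two, hd01, hd10, (shape c _).1] at e00 e01 e10 e11
  simp [mat_sb, hτc] at e00 e01 e10 e11
  set a := mat (α (sb c t 0 hts)) 0 0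
  rw [Matrix.det_fin_two] at hUdet
  by_cases h00 : (U : Matrix (Fin 2) (Fin 2) F) 0 0 = 0
  swap
  · -- diagonal case
    have hat : a = τ t := mul_right_cancel₀ h00 (by linear_combination e00)
    have h01 : (U : Matrix (Fin 2) (Fin 2) F) 0 1 = 0 := by
      rcases mul_eq_zero.1 (show (a - c.σ (τ t)) * (U : Matrix (Fin 2) (Fin 2) F) 0 1 = 0 by
        linear_combination e01) with h | h
      · rw [hat] at h; exact absurd (sub_eq_zero.1 h) hne
      · exact h
    have h10 : (U : Matrix (Fin 2) (Fin 2) F) 1 0 = 0 := by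
      rcases mul_eq_zero.1 (show (c.σ a - τ t) * (U : Matrix (Fin 2) (Fin 2) F) 1 0 = 0 by
        linear_combination e10) with h | h
      · rw [hat] at h; exact absurd (sub_eq_zero.1 h).symm hne
      · exact h
    have h11 : (U : Matrix (Fin 2) (Fin 2) F) 1 1 ≠ 0 := fun h => hUdet (by rw [h01, h]; ring)
    set A := (U : Matrix (Fin 2) (Fin 2) F) 0 0
    set D := (U : Matrix (Fin 2) (Fin 2) F) 1 1
    have key : ∀ g, mat (α g) 0 0 = τ (mat g 0 0) ∧ mat (α g) 1 0 * A = D * τ (mat g 1 0) ∧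
        mat (α g) 0 1 * D = A * τ (mat g 0 1) := by
      intro g
      have e' := fun i j => congrFun (congrFun (hmain g) i) j
      have f00 := e' 0 0
      have f10 := e' 1 0
      have f01 := e' 0 1
      simp [Matrix.mul_apply, Fin.sum_univ_two, h01, h10] at f00 f10 f01
      exact ⟨mul_right_cancel₀ h00 (by linear_combination f00), f10, f01⟩
    have hnorm : A * c.σ A = D * c.σ D := by
      have hh : nm c (0 : F) + nm c (1 : F) = 1 := by simp
      obtain ⟨-, k10, k01⟩ := key (sb c 0 1 hh)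
      rw [(shape c _).2] at k01
      simp [mat_sb] at k10 k01
      have hn : mat (α (sb c 0 1 hh)) 1 0 ≠ 0 := fun h => h11 (by rw [h, zero_mul] at k10; exact k10.symm)
      have := congrArg c.σ k10
      rw [map_mul] at this
      linear_combination -c.σ A * k01 + D * this
    refine ⟨D / A, τ, ?_, fun g => ?_⟩
    · rw [nm_div, nm, nm, ← hnorm, div_self (mul_ne_zero h00 fun h => h00 (c.eq_zero h))]
    obtain ⟨k00, k10, k01⟩ := key g
    have hA' : c.σ A ≠ 0 := fun h => h00 (c.eq_zero h)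
    ext i j
    fin_cases i <;> fin_cases j <;>
      simp [Matrix.mul_apply, Fin.sum_univ_two, Matrix.diagonal]
    · exact k00
    · rw [(shape c (α g)).2, (shape c g).2, map_neg, hτc]
      have := congrArg c.σ k10
      rw [map_mul, map_mul] at this
      field_simp
      linear_combination -this
    · field_simp
      linear_combination k10
    · rw [(shape c (α g)).1, (shape c g).1, k00, hτc]
      field_simp
      linear_combination c.σ (τ (mat g 0 0)) * hnorm
  · -- the case exchanging the two lines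
    set B := (U : Matrix (Fin 2) (Fin 2) F) 0 1
    set C := (U : Matrix (Fin 2) (Fin 2) F) 1 0
    have hB : B ≠ 0 := fun h => hUdet (by rw [h00, h]; ring)
    have hC : C ≠ 0 := fun h => hUdet (by rw [h00, h]; ring)
    have hat : a = c.σ (τ t) := mul_right_cancel₀ hB (by linear_combination e01)
    have h11 : (U : Matrix (Fin 2) (Fin 2) F) 1 1 = 0 := by
      rcases mul_eq_zero.1 (show (c.σ a - c.σ (τ t)) * (U : Matrix (Fin 2) (Fin 2) F) 1 1 = 0 by
        linear_combination e11) with h | h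
      · rw [hat, c.invol] at h; exact absurd (sub_eq_zero.1 h) hne
      · exact h
    have key : ∀ g, mat (α g) 0 0 = c.σ (τ (mat g 0 0)) ∧ mat (α g) 1 0 * B = C * τ (mat g 0 1) ∧
        mat (α g) 0 1 * C = B * τ (mat g 1 0) := by
      intro g
      have e' := fun i j => congrFun (congrFun (hmain g) i) j
      have f01 := e' 0 1
      have f11 := e' 1 1
      have f00 := e' 0 0
      simp [Matrix.mul_apply, Fin.sum_univ_two, h00, h11] at f00 f01 f11
      refine ⟨mul_right_cancel₀ hB ?_, f11, f00⟩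
      rw [(shape c g).1, hτc] at f01
      linear_combination f01
    have hnorm : B * c.σ B = C * c.σ C := by
      have hh : nm c (0 : F) + nm c (1 : F) = 1 := by simp
      obtain ⟨-, k10, k01⟩ := key (sb c 0 1 hh)
      rw [(shape c _).2] at k01
      simp [mat_sb] at k10 k01
      have := congrArg c.σ k10
      rw [map_mul, map_neg] at this
      linear_combination (-c.σ B) * k01 - C * this
    let σe : F ≃+* F := { c.σ with invFun := c.σ, left_inv := c.invol, right_inv := c.invol }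
    refine ⟨-(C / B), τ.trans σe, ?_, fun g => ?_⟩
    · rw [nm_neg, nm_div, nm, nm, ← hnorm, div_self (mul_ne_zero hB fun h => hB (c.eq_zero h))]
    obtain ⟨k00, k10, k01⟩ := key g
    have hB' : c.σ B ≠ 0 := fun h => hB (c.eq_zero h)
    have hcB : ∀ x, σe x = c.σ x := fun x => rfl
    have k10' : mat (α g) 1 0 * B = -(C * c.σ (τ (mat g 1 0))) := by
      rw [k10, (shape c g).2, map_neg, hτc, mul_neg]
    ext i j
    fin_cases i <;> fin_cases j <;>
      simp [Matrix.mul_apply, Fin.sum_univ_two, Matrix.diagonal, hcB]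
    · exact k00
    · rw [(shape c (α g)).2, (shape c g).2, map_neg, hτc, map_neg, c.invol]
      have := congrArg c.σ k10'
      rw [map_mul, map_neg, map_mul, c.invol] at this
      field_simp
      linear_combination -this
    · field_simp
      linear_combination k10'
    · rw [(shape c (α g)).1, (shape c g).1, k00, hτc, c.invol]
      field_simp
      linear_combination τ (mat g 0 0) * hnorm

end CfsgLib.SUAmalgam
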