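/-
Coordinates, truncated norms and the decomposition of the three-dimensional blocks.
-/
import Cfsg.Agent.Lib.SUAmalgam.Moves

set_option autoImplicit false
set_option linter.unusedSectionVars false

open Matrix

namespace CfsgLib.SUAmalgam

open CfsgLib.ClassicalForms

variable {F : Type*} [Field F] {q m : ℕ} (c : Conj F q)

/-- A coordinate, zero out of range. -/
def co (x : Fin m → F) (j : ℕ) : F := if h : j < m then x ⟨j, h⟩ else 0

/-- A coordinate vector, zero out of range. -/
def ev (m : ℕ) (F : Type*) [Field F] (j : ℕ) : Fin m → F := fun l => if (l : ℕ) = j then 1 else 0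

theorem co_apply (x : Fin m → F) (l : Fin m) : co x l = x l := by simp [co]

theorem co_mk (x : Fin m → F) {j : ℕ} (h : j < m) : co x j = x ⟨j, h⟩ := by simp [co, h]

theorem co_of_le (x : Fin m → F) {j : ℕ} (h : m ≤ j) : co x j = 0 := by simp [co, h]

theorem co_ext {x y : Fin m → F} (h : ∀ j, j < m → co x j = co y j) : x = y :=
  funext fun l => by rw [← co_apply x, ← co_apply y, h l l.isLt]

theorem co_add (x y : Fin m → F) (j : ℕ) : co (x + y) j = co x j + co y j := by
  unfold co; split <;> simp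

theorem co_smul (a : F) (x : Fin m → F) (j : ℕ) : co (a • x) j = a * co x j := by
  unfold co; split <;> simp

@[simp] theorem co_zero (j : ℕ) : co (0 : Fin m → F) j = 0 := by simp [co]

theorem co_ev {i : ℕ} (hi : i < m) (j : ℕ) : co (ev m F i) j = if j = i then 1 else 0 := by
  unfold co ev
  by_cases h : j < m
  · simp [h]
  · simp [h, show j ≠ i by omega]

theorem ev_eq_single (l : Fin m) : ev m F l = Pi.single l 1 := by
  funext k; simp [ev, Pi.single_apply, Fin.ext_iff]

theorem act_ev_Blk {i r j : ℕ} {g : SUg m F q} (hg : g ∈ Blk c m i r) (h : j < i ∨ i + r ≤ j) :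
    act g (ev m F j) = ev m F j := by
  by_cases hj : j < m
  · have := hg ⟨j, hj⟩ h
    rwa [← ev_eq_single ⟨j, hj⟩] at this
  · rw [show ev m F j = 0 from funext fun l => by simp [ev]; omega, act_zero]

theorem co_Blk {i r j : ℕ} {g : SUg m F q} (hg : g ∈ Blk c m i r) (h : j < i ∨ i + r ≤ j)
    (x : Fin m → F) : co (act g x) j = co x j := by
  by_cases hj : j < m
  · rw [co_mk _ hj, co_mk _ hj]
    exact act_coord c (hg ⟨j, hj⟩ h) x
  · rw [co_of_le _ (not_lt.1 hj), co_of_le _ (not_lt.1 hj)]

theorem Blk_step {i r : ℕ} {g : SUg m F q} (hg : g ∈ Blk c m i (r + 1))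
    (he : act g (ev m F i) = ev m F i) : g ∈ Blk c m (i + 1) r := by
  intro k hk
  by_cases hki : (k : ℕ) = i
  · rw [← ev_eq_single, hki]; exact he
  · exact hg k (by omega)

theorem Blk_bot {i r : ℕ} (h : m ≤ i ∨ r = 0) : Blk c m i r = ⊥ := by
  refine eq_bot_iff.2 fun g hg => Subgroup.mem_bot.2 (ext_act fun k => ?_)
  rw [act_one]
  exact hg k (by omega)

theorem Blk_one (i : ℕ) : Blk c m i 1 = ⊥ := by
  by_cases h : i + 1 ≤ m
  swap
  · exact Blk_bot c (Or.inl (by omega))
  rw [← range_emb c i h, MonoidHom.range_eq_bot_iff]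
  refine MonoidHom.ext fun g => ?_
  have hg : g = 1 := by
    refine ext_act fun k => funext fun l => ?_
    have hk : k = 0 := Subsingleton.elim _ _
    have hl : l = 0 := Subsingleton.elim _ _
    subst hk hl
    have h1 : (mat g).det = 1 := g.1.2
    rw [Matrix.det_fin_one] at h1
    simp [act_single, h1]
  simp [hg]

/-- The vector with the coordinates below `j` deleted. -/
def cut (j : ℕ) (x : Fin m → F) : Fin m → F := fun l => if (l : ℕ) < j then 0 else x l

/-- The norm of the coordinates from `j` on. -/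
def T (j : ℕ) (x : Fin m → F) : F := Cfsg.hermForm m F q (cut j x) (cut j x)

theorem T_eq_sum (j : ℕ) (x : Fin m → F) :
    T (q := q) j x = ∑ l : Fin m, if (l : ℕ) < j then 0 else nm c (x l) := by
  rw [T, c.herm_apply]
  refine Finset.sum_congr rfl fun l _ => ?_
  unfold cut
  split <;> simp [nm]

theorem T_succ (j : ℕ) (x : Fin m → F) :
    T (q := q) j x = nm c (co x j) + T (q := q) (j + 1) x := by
  rw [T_eq_sum c, T_eq_sum c]
  by_cases h : j < m
  · rw [co_mk _ h, ← Finset.add_sum_erase _ _ (Finset.mem_univ (⟨j, h⟩ : Fin m)),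
      ← Finset.add_sum_erase _ _ (Finset.mem_univ (⟨j, h⟩ : Fin m))]
    simp only [lt_self_iff_false, if_false, Nat.lt_succ_self, if_true, zero_add]
    congr 1
    refine Finset.sum_congr rfl fun l hl => ?_
    have : (l : ℕ) ≠ j := fun e => (Finset.ne_of_mem_erase hl) (Fin.ext e)
    by_cases h' : (l : ℕ) < j
    · rw [if_pos h', if_pos (by omega)]
    · rw [if_neg h', if_neg (by omega)]
  · rw [co_of_le _ (not_lt.1 h), nm_zero, zero_add]
    refine Finset.sum_congr rfl fun l _ => ?_
    rw [if_pos (by omega), if_pos (by omega)]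

include c in
theorem T_of_le {j : ℕ} (h : m ≤ j) (x : Fin m → F) : T (q := q) j x = 0 := by
  rw [T_eq_sum c]
  exact Finset.sum_eq_zero fun l _ => if_pos (by omega)

theorem T_congr {j : ℕ} {x y : Fin m → F} (h : ∀ l, j ≤ l → co x l = co y l) :
    T (q := q) j x = T (q := q) j y := by
  have : cut j x = cut j y := funext fun l => by
    unfold cut
    split
    · rfl
    · rw [← co_apply x, ← co_apply y]; exact h l (by omega)
  rw [T, T, this]

theorem cut_Blk {i r j : ℕ} {g : SUg m F q} (hg : g ∈ Blk c m i r) (h : j ≤ i) (x : Fin m → F) :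
    cut j (act g x) = act g (cut j x) := by
  have hfix : act g (x - cut j x) = x - cut j x := act_fix_of_support fun k => by
    by_cases hk : (k : ℕ) < j
    · exact Or.inl (hg k (Or.inl (by omega)))
    · exact Or.inr (by simp [cut, hk])
  have hx : act g x = act g (cut j x) + (x - cut j x) := by
    rw [← hfix, ← act_add, add_sub_cancel]
  funext l
  have hl : (l : ℕ) < j → act g (cut j x) l = 0 := fun hl => by
    rw [act_coord c (hg l (Or.inl (by omega))) (cut j x)]; simp [cut, hl]
  by_cases hlj : (l : ℕ) < j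
  · simp [cut, hlj] at hl ⊢
    exact hl.symm
  · have := congrFun hx l
    simp [cut, hlj] at this ⊢
    exact this

theorem T_Blk {i r j : ℕ} {g : SUg m F q} (hg : g ∈ Blk c m i r) (h : j ≤ i ∨ i + r ≤ j)
    (x : Fin m → F) : T (q := q) j (act g x) = T (q := q) j x := by
  rcases h with h | h
  · rw [T, T, cut_Blk c hg h, herm_act]
  · exact T_congr fun l hl => co_Blk c hg (Or.inr (h.trans hl)) x

/-- Supported from `k` on. -/
def Sup (k : ℕ) (x : Fin m → F) : Prop := ∀ j, j < k → co x j = 0

theorem Sup.act {k i r : ℕ} {g : SUg m F q} (hg : g ∈ Blk c m i r) (h : k ≤ i) {x : Fin m → F}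
    (hx : Sup k x) : Sup k (act g x) := fun j hj => by
  rw [co_Blk c hg (Or.inl (by omega)), hx j hj]

theorem T_eq_herm {k : ℕ} {x : Fin m → F} (hx : Sup k x) :
    T (q := q) k x = Cfsg.hermForm m F q x x := by
  have : cut k x = x := funext fun l => by
    unfold cut
    split
    · next h => rw [← co_apply x, hx l h]
    · rfl
  rw [T, this]

include c in
theorem T_ev {i j : ℕ} (hi : i < m) : T (q := q) j (ev m F i) = if j ≤ i then 1 else 0 := by
  rw [T_eq_sum c]
  by_cases h : j ≤ i
  · rw [Finset.sum_eq_single ⟨i, hi⟩]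
    · simp [ev, show ¬ i < j by omega, h]
    · intro l _ hl
      have : (l : ℕ) ≠ i := fun e => hl (Fin.ext e)
      simp [ev, this]
    · simp
  · rw [if_neg h]
    refine Finset.sum_eq_zero fun l _ => ?_
    by_cases hl : (l : ℕ) = i
    · rw [if_pos (by omega)]
    · simp [ev, hl]

variable [Finite F]

/-- Moving a pair of consecutive coordinates of nonzero norm. -/
theorem move_frame {i : ℕ} (hi : i + 2 ≤ m) (x : Fin m → F) {a b : F}
    (hne : nm c (co x i) + nm c (co x (i + 1)) ≠ 0)
    (h : nm c a + nm c b = nm c (co x i) + nm c (co x (i + 1))) :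
    ∃ g ∈ Blk c m i 2, co (act g x) i = a ∧ co (act g x) (i + 1) = b := by
  rw [co_mk x (show i < m by omega), co_mk x (show i + 1 < m by omega)] at hne h
  obtain ⟨g, hg⟩ := exists_frame c hne h
  obtain ⟨h0, h1, -⟩ := act_two_coord c i hi g x
  exact ⟨emb c i hi g, emb_mem_Blk c i hi g,
    by rw [co_mk _ (show i < m by omega), h0, hg]; rfl,
    by rw [co_mk _ (show i + 1 < m by omega), h1, hg]; rfl⟩

/-- Prescribing the norm of the first of a pair of coordinates. -/
theorem move_norm {i : ℕ} (hi : i + 2 ≤ m) (x : Fin m → F) {k : F}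
    (hne : co x i ≠ 0 ∨ co x (i + 1) ≠ 0) (hk : c.σ k = k)
    (hiso : nm c (co x i) + nm c (co x (i + 1)) = 0 → k ≠ 0) :
    ∃ g ∈ Blk c m i 2, nm c (co (act g x) i) = k := by
  rw [co_mk x (show i < m by omega), co_mk x (show i + 1 < m by omega)] at hne hiso
  obtain ⟨g, hg⟩ := exists_first_norm c _ _ k hne hk hiso
  obtain ⟨h0, -, -⟩ := act_two_coord c i hi g x
  exact ⟨emb c i hi g, emb_mem_Blk c i hi g, by rw [co_mk _ (show i < m by omega), h0, hg]⟩

variable [Fintype F] (hF : Nat.card F = q ^ 2) (hq : 3 < q)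
include hF hq

theorem move_two {i : ℕ} (hi : i + 2 ≤ m) (x y : Fin m → F) :
    ∃ g ∈ Blk c m i 2, nm c (co (act g x) i) ≠ 1 ∧ nm c (co (act g y) i) ≠ 1 := by
  obtain ⟨g, h1, h2⟩ := exists_two_rows c hF hq (co x i) (co x (i + 1)) (co y i) (co y (i + 1))
  refine ⟨emb c i hi g, emb_mem_Blk c i hi g, ?_, ?_⟩
  · rw [co_mk _ (show i < m by omega), (act_two_coord c i hi g x).1]
    rwa [co_mk x (show i < m by omega), co_mk x (show i + 1 < m by omega)] at h1
  · rw [co_mk _ (show i < m by omega), (act_two_coord c i hi g y).1]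
    rwa [co_mk y (show i < m by omega), co_mk y (show i + 1 < m by omega)] at h2

/-- An element of a three-dimensional block as a product of elements of the two small blocks. -/
theorem block_decomp {i : ℕ} (hi : i + 3 ≤ m) {g : SUg m F q} (hg : g ∈ Blk c m i 3) (x : Fin m → F) :
    ∃ s₀ ∈ Blk c m i 2, ∃ h ∈ Blk c m (i + 1) 2, ∃ s ∈ Blk c m i 2, ∃ h' ∈ Blk c m (i + 1) 2,
      g = s₀ * h * s * h' ∧ nm c (co (act s₀⁻¹ (act g x)) i) ≠ 1 := by
  obtain ⟨t, ht, ht1, ht2⟩ := move_two c hF hq (show i + 2 ≤ m by omega) (act g (ev m F i)) (act g x)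
  have htg : t * g ∈ Blk c m i 3 := mul_mem (Blk_mono c le_rfl (by omega) ht) hg
  set y := act (t * g) (ev m F i) with hy
  have hy0 : nm c (co y i) ≠ 1 := by rw [hy, act_mul]; exact ht1
  have hT : T (q := q) i y = 1 := by rw [hy, T_Blk c htg (Or.inl le_rfl), T_ev c (by omega), if_pos le_rfl]
  have hT3 : T (q := q) (i + 1 + 1 + 1) y = 0 := by
    rw [hy, T_Blk c htg (Or.inr (by omega)), T_ev c (by omega), if_neg (by omega)]
  rw [T_succ c i, T_succ c (i + 1), T_succ c (i + 1 + 1), hT3, add_zero] at hT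
  obtain ⟨b, hb⟩ := exists_nm c (k := nm c (co y (i + 1)) + nm c (co y (i + 1 + 1)))
    (by rw [map_add, nm_fixed, nm_fixed])
  obtain ⟨h, hh, hh1, hh2⟩ := move_frame c (show i + 1 + 2 ≤ m by omega) y (a := b) (b := 0)
    (fun e => hy0 (by linear_combination hT - e)) (by rw [nm_zero, add_zero, hb])
  set y' := act h y with hy'
  obtain ⟨s, hs, hs1, hs2⟩ := move_frame c (show i + 2 ≤ m by omega) y' (a := 1) (b := 0)
    (by rw [hy', co_Blk c hh (Or.inl (by omega)), ← hy', hh1, hb, hT]; exact one_ne_zero)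
    (by rw [hy', co_Blk c hh (Or.inl (by omega)), ← hy', hh1, hb, hT, nm_one, nm_zero, add_zero])
  have hfix : act (s * h * (t * g)) (ev m F i) = ev m F i := by
    rw [act_mul, act_mul, ← hy, ← hy']
    refine co_ext fun j hj => ?_
    rw [co_ev (show i < m by omega)]
    rcases lt_trichotomy j i with hji | rfl | hji
    · rw [co_Blk c hs (Or.inl hji), hy', co_Blk c hh (Or.inl (by omega)), hy,
        co_Blk c htg (Or.inl hji), co_ev (show i < m by omega)]
    · rw [hs1, if_pos rfl]
    · rw [if_neg (by omega)]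
      rcases Nat.lt_or_ge j (i + 2) with hj2 | hj2
      · rw [show j = i + 1 by omega, hs2]
      · rw [co_Blk c hs (Or.inr hj2)]
        rcases Nat.lt_or_ge j (i + 3) with hj3 | hj3
        · rw [show j = i + 1 + 1 by omega, hy', hh2]
        · rw [hy', co_Blk c hh (Or.inr (by omega)), hy, co_Blk c htg (Or.inr hj3),
            co_ev (show i < m by omega), if_neg (by omega)]
  have hH : s * h * (t * g) ∈ Blk c m (i + 1) 2 :=
    Blk_step c (mul_mem (mul_mem (Blk_mono c le_rfl (by omega) hs)
      (Blk_mono c (by omega) (by omega) hh)) htg) hfix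
  exact ⟨t⁻¹, inv_mem ht, h⁻¹, inv_mem hh, s⁻¹, inv_mem hs, _, hH, by group,
    by rw [inv_inv]; exact ht2⟩

theorem Blk_three_le (i : ℕ) (hi : i + 3 ≤ m) :
    Blk c m i 3 ≤ Blk c m i 2 ⊔ Blk c m (i + 1) 2 := fun g hg => by
  obtain ⟨a, ha, b, hb, s, hs, h, hh, rfl, -⟩ := block_decomp c hF hq hi hg 0
  exact mul_mem (mul_mem (mul_mem (Subgroup.mem_sup_left ha) (Subgroup.mem_sup_right hb))
    (Subgroup.mem_sup_left hs)) (Subgroup.mem_sup_right hh)

end CfsgLib.SUAmalgam
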