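/-
Covers of the special unitary group by its small blocks, and the setting of the inductive step.
-/
import Cfsg.Agent.Lib.SUAmalgam.Coord
import Cfsg.Agent.Lib.ClassicalForms.Unitary.Two

set_option autoImplicit false
set_option linter.unusedSectionVars false

open Matrix

namespace CfsgLib.SUAmalgam

open CfsgLib.ClassicalForms

/-- A homomorphism is injective on a subgroup. -/
def KerFree {K G : Type*} [Group K] [Group G] (π : K →* G) (X : Subgroup K) : Prop :=
  ∀ a ∈ X, π a = 1 → a = 1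

theorem KerFree.eq {K G : Type*} [Group K] [Group G] {π : K →* G} {X : Subgroup K}
    (h : KerFree π X) {a b : K} (ha : a ∈ X) (hb : b ∈ X) (e : π a = π b) : a = b :=
  eq_of_mul_inv_eq_one (h _ (mul_mem ha (inv_mem hb)) (by rw [map_mul, map_inv, e, mul_inv_cancel]))

variable {F : Type*} [Field F] {q m : ℕ}

theorem exists_fixed_notMem [Finite F] (c : Conj F q) (hF : Nat.card F = q ^ 2) (s : Finset F)
    (hs : s.card < q) : ∃ x : F, c.σ x = x ∧ x ∉ s := by
  classical
  by_contra hne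
  simp only [not_exists, not_and, not_not] at hne
  have : Nat.card c.fixed ≤ Nat.card s := Nat.card_le_card_of_injective
    (fun x => (⟨(x : F), hne x x.2⟩ : s))
    fun x y h => Subtype.ext (congrArg (fun z : s => (z : F)) h)
  rw [c.card_fixed hF, Nat.card_eq_fintype_card, Fintype.card_coe] at this
  omega

/-- A group over the special unitary group with copies of the small blocks. -/
structure Cover (c : Conj F q) (m : ℕ) (K : Type*) [Group K] where
  π : K →* SUg m F q
  S : ℕ → Subgroup K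
  hm : 3 ≤ m
  map_S : ∀ i, i + 2 ≤ m → (S i).map π = Blk c m i 2
  comm : ∀ i j, i + 2 ≤ j → j + 2 ≤ m → ∀ a ∈ S i, ∀ b ∈ S j, a * b = b * a
  inj : ∀ i, i + 3 ≤ m → KerFree π (S i ⊔ S (i + 1))

namespace Cover

variable {c : Conj F q} {K : Type*} [Group K] (C : Cover c m K)

theorem injS {i : ℕ} (hi : i + 2 ≤ m) : KerFree C.π (C.S i) := by
  intro a ha
  by_cases h : i + 3 ≤ m
  · exact C.inj i h a (Subgroup.mem_sup_left ha)
  · have := C.hm
    obtain ⟨j, rfl⟩ : ∃ j, i = j + 1 := ⟨i - 1, by omega⟩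
    exact C.inj j (by omega) a (Subgroup.mem_sup_right ha)

/-- The subgroup generated by the blocks from `k` on. -/
def Fam (k : ℕ) : Subgroup K :=
  Subgroup.closure {a | ∃ j, k ≤ j ∧ j + 2 ≤ m ∧ a ∈ C.S j}

theorem S_le_Fam {k j : ℕ} (h : k ≤ j) (hj : j + 2 ≤ m) : C.S j ≤ C.Fam k := fun _ ha =>
  Subgroup.subset_closure ⟨j, h, hj, ha⟩

theorem Fam_le {k : ℕ} {H : Subgroup K} (h : ∀ j, k ≤ j → j + 2 ≤ m → C.S j ≤ H) : C.Fam k ≤ H :=
  (Subgroup.closure_le _).2 (by rintro a ⟨j, hj, hj', ha⟩; exact h j hj hj' ha)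

theorem Fam_anti {k k' : ℕ} (h : k' ≤ k) : C.Fam k ≤ C.Fam k' :=
  C.Fam_le fun _ hj => C.S_le_Fam (h.trans hj)

theorem map_mem_S {i : ℕ} (hi : i + 2 ≤ m) {a : K} (ha : a ∈ C.S i) : C.π a ∈ Blk c m i 2 :=
  (C.map_S i hi).le ⟨a, ha, rfl⟩

theorem map_mem_Fam {k : ℕ} {a : K} (ha : a ∈ C.Fam k) : C.π a ∈ Blk c m k m := by
  suffices h : C.Fam k ≤ (Blk c m k m).comap C.π from h ha
  exact C.Fam_le fun j hj hj' b hb => Blk_mono c hj (by omega) (C.map_mem_S hj' hb)

/-- The induction statement. -/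
structure Good (k : ℕ) : Prop where
  inj : KerFree C.π (C.Fam k)
  map : Blk c m k m ≤ (C.Fam k).map C.π
  trans : k + 2 ≤ m → ∀ x : Fin m → F, Sup k x → T (q := q) k x = 1 →
    ∃ g ∈ Blk c m k m, act g (ev m F k) = x

theorem good_top {k : ℕ} (h : m ≤ k + 1) : C.Good k where
  inj := fun a ha _ => Subgroup.mem_bot.1 (C.Fam_le (H := ⊥) (fun j hj hj' => absurd hj' (by omega)) ha)
  map := by
    refine le_trans (fun g hg => ?_) bot_le
    rw [← Blk_one c k]
    exact fun l hl => hg l (by have := l.isLt; omega)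
  trans := fun h' => absurd h' (by omega)

theorem good_two [Finite F] {k : ℕ} (h : k + 2 = m) : C.Good k := by
  have hle : C.Fam k ≤ C.S k := C.Fam_le fun j hj hj' => by rw [show j = k by omega]
  refine ⟨fun a ha => C.injS h.le a (hle ha), fun g hg => ?_, fun _ x hx hT => ?_⟩
  · obtain ⟨a, ha, rfl⟩ := (C.map_S k h.le).ge (show g ∈ Blk c m k 2 from
      fun l hl => hg l (by have := l.isLt; omega))
    exact ⟨a, C.S_le_Fam le_rfl h.le ha, rfl⟩
  · rw [T_succ c k, T_succ c (k + 1), T_of_le c (by omega) x, add_zero] at hT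
    obtain ⟨g, hg, h0, h1⟩ := move_frame c h.le (ev m F k) (a := co x k) (b := co x (k + 1))
      (by rw [co_ev (by omega), co_ev (by omega)]; simp)
      (by rw [hT, co_ev (by omega), co_ev (by omega)]; simp)
    refine ⟨g, fun l hl => hg l (by omega), co_ext fun j hj => ?_⟩
    rcases lt_or_ge j k with hjk | hjk
    · rw [co_Blk c hg (Or.inl hjk), co_ev (by omega), if_neg (by omega), hx j hjk]
    · rcases eq_or_lt_of_le hjk with rfl | hjk'
      · exact h0
      · rw [show j = k + 1 by omega]; exact h1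

end Cover

/-- One step of the induction. -/
structure Lvl {c : Conj F q} {K : Type*} [Group K] (C : Cover c m K) where
  k : ℕ
  hk : k + 3 ≤ m
  hI : C.Good (k + 1)
  hI2 : C.Good (k + 2)
  hF : Nat.card F = q ^ 2
  hq : 3 < q

end CfsgLib.SUAmalgam
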