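/-
The equivariant section on unit vectors: the inductive step for covers of the special unitary group.
-/
import Cfsg.Agent.Lib.SUAmalgam.Chart

set_option autoImplicit false
set_option linter.unusedSectionVars false

open Matrix

namespace CfsgLib.SUAmalgam

open CfsgLib.ClassicalForms

variable {F : Type*} [Field F] [Fintype F] {q m : ℕ} {c : Conj F q} {K : Type*} [Group K]

namespace Lvl

variable {C : Cover c m K} (D : Lvl C)

/-- The tail is zero or has nonzero norm. -/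
def Aniso (x : Fin m → F) : Prop :=
  T (q := q) (D.k + 2) x ≠ 0 ∨ ∀ j, D.k + 2 ≤ j → co x j = 0

theorem exists_flat {x : Fin m → F} (h : D.Aniso x) :
    ∃ r ∈ D.L₂, ∀ j, D.k + 3 ≤ j → co (act (C.π r) x) j = 0 := by
  have := D.hk
  by_cases h4 : D.k + 4 ≤ m
  swap
  · exact ⟨1, one_mem _, fun j hj => co_of_le _ (by omega)⟩
  rcases h with h | h
  swap
  · exact ⟨1, one_mem _, fun j hj => by rw [map_one, act_one]; exact h j (by omega)⟩
  obtain ⟨b, hb⟩ := exists_nm c (k := T (q := q) (D.k + 2) x) (c.herm_self _)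
  have hb0 : b ≠ 0 := fun e => h (by rw [← hb, e, nm_zero])
  have hs : Sup (D.k + 2) (b⁻¹ • cut (D.k + 2) x) := fun j hj => by
    rw [co_smul, co_mk _ (show j < m by omega)]
    simp [cut, hj]
  obtain ⟨g, hg, hge⟩ := D.hI2.trans (by omega) _ hs (by
    rw [T_eq_herm hs, c.smul_left, c.smul_right, ← mul_assoc,
      show b⁻¹ * c.σ b⁻¹ = (nm c b)⁻¹ by rw [nm, map_inv₀, mul_inv]]
    show (nm c b)⁻¹ * T (q := q) (D.k + 2) x = 1
    rw [← hb, inv_mul_cancel₀ (fun e => hb0 ((nm_eq_zero c).1 e))])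
  obtain ⟨r, hr, rfl⟩ := D.hI2.map hg
  refine ⟨r⁻¹, inv_mem hr, fun j hj => ?_⟩
  have hcut : cut (D.k + 2) x = b • act (C.π r) (ev m F (D.k + 2)) := by
    rw [hge, smul_smul, mul_inv_cancel₀ hb0, one_smul]
  have h2 : cut (D.k + 2) (act (C.π r⁻¹) x) = b • ev m F (D.k + 2) := by
    rw [cut_Blk c (D.π_L₂ (inv_mem hr)) le_rfl, hcut, act_smul, map_inv, act_inv_act]
  by_cases hjm : j < m
  · have h3 := congrArg (fun z => co z j) h2
    simp only [co_smul, co_ev (show D.k + 2 < m by omega), if_neg (show ¬ j = D.k + 2 by omega),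
      mul_zero] at h3
    rw [co_mk _ hjm] at h3 ⊢
    simpa [cut, show ¬ j < D.k + 2 by omega] using h3
  · exact co_of_le _ (by omega)

theorem nice_L₂ {r : K} (hr : r ∈ D.L₂) {x : Fin m → F} :
    D.Nice (act (C.π r) x) ↔ D.Nice x :=
  D.nice_L (D.L₂_le_L hr)

theorem transfer {s r : K} (hs : s ∈ C.S D.k) (hr : r ∈ D.L₂) {x : Fin m → F} (hx : D.Vec₁ x)
    (h : D.Nice x) (h' : D.Nice (act (C.π s) x)) (hok : D.OkG s (act (C.π r) x)) : D.OkG s x := by
  have hsr : r⁻¹ * (s * r) = s := by rw [D.comm_L₂ hs hr, inv_mul_cancel_left]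
  have hsx : act (C.π s) (act (C.π r) x) = act (C.π r) (act (C.π s) x) := by
    rw [← act_mul, ← act_mul, ← map_mul, ← map_mul, D.comm_L₂ hs hr]
  rw [← hsr]
  refine OkG.mul (OkG.mul (D.okG_L (D.L₂_le_L hr) hx h) hok) ?_
  rw [map_mul, act_mul, hsx]
  exact D.okG_L (inv_mem (D.L₂_le_L hr))
    (D.vec_act (D.π_L₂ hr) (by omega) (D.vec_act (D.π_S₀ hs) le_rfl hx)) ((D.nice_L₂ hr).2 h')

theorem exists_J_rep {x : Fin m → F} (hx : D.Vec₁ x) (h : D.Nice x)
    (h3 : ∀ j, D.k + 3 ≤ j → co x j = 0) : ∃ a ∈ D.J, act (C.π a) D.e = x := by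
  have := D.hk
  have hT := hx.2
  have hT3 : T (q := q) (D.k + 1 + 1 + 1) x = 0 := by
    rw [T_congr (y := (0 : Fin m → F)) fun j hj => by rw [h3 j (by omega), co_zero],
      T_eq_sum c]
    simp
  rw [T_succ c D.k, T_succ c (D.k + 1), T_succ c (D.k + 1 + 1), hT3, add_zero] at hT
  obtain ⟨b, hb⟩ := exists_nm c (k := nm c (co x (D.k + 1)) + nm c (co x (D.k + 1 + 1)))
    (by rw [map_add, nm_fixed, nm_fixed])
  obtain ⟨g, hg, hg1, hg2⟩ := move_frame c D.hk12 x (a := b) (b := 0)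
    (fun e => h (by linear_combination hT - e)) (by rw [nm_zero, add_zero, hb])
  obtain ⟨l, hl, rfl⟩ := D.exists_S₁ hg
  have hk0 : co D.e D.k = 1 := by rw [e, co_ev (show D.k < m by omega), if_pos rfl]
  have hk1 : co D.e (D.k + 1) = 0 := by rw [e, co_ev (show D.k < m by omega), if_neg (by omega)]
  obtain ⟨g₀, hg₀, h0, h1⟩ := move_frame c D.hk2 D.e (a := co x D.k) (b := b)
    (by rw [hk0, hk1]; simp)
    (by rw [hk0, hk1, hb]; simp [hT])
  obtain ⟨s, hs, rfl⟩ := D.exists_S₀ hg₀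
  refine ⟨l⁻¹ * s, mul_mem (inv_mem (Subgroup.mem_sup_right hl)) (Subgroup.mem_sup_left hs), ?_⟩
  have hlx : act (C.π l) x = act (C.π s) D.e := by
    refine co_ext fun j _ => ?_
    by_cases hj0 : j = D.k
    · subst hj0; rw [co_Blk c (D.π_S₁ hl) (Or.inl (Nat.lt_succ_self _)), h0]
    by_cases hj1 : j = D.k + 1
    · subst hj1; rw [hg1, h1]
    rw [co_Blk c (D.π_S₀ hs) (by omega), e, co_ev (show D.k < m by omega), if_neg hj0]
    by_cases hj2 : j = D.k + 1 + 1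
    · subst hj2; rw [hg2]
    rw [co_Blk c (D.π_S₁ hl) (by omega)]
    by_cases hjk : j < D.k
    · exact hx.1 j hjk
    · exact h3 j (by omega)
  rw [map_mul, map_inv, act_mul, ← hlx, act_inv_act]

theorem okG_S₀_aniso {s : K} (hs : s ∈ C.S D.k) {x : Fin m → F} (hx : D.Vec₁ x) (h : D.Nice x)
    (h' : D.Nice (act (C.π s) x)) (hw : D.Aniso x) : D.OkG s x := by
  obtain ⟨r, hr, hflat⟩ := D.exists_flat hw
  refine D.transfer hs hr hx h h' ?_
  have hx' : D.Vec₁ (act (C.π r) x) := D.vec_act (D.π_L₂ hr) (by omega) hx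
  have hn : D.Nice (act (C.π r) x) := (D.nice_L₂ hr).2 h
  have hn' : D.Nice (act (C.π s) (act (C.π r) x)) := by
    rw [← act_mul, ← map_mul, D.comm_L₂ hs hr, map_mul, act_mul]
    exact (D.nice_L₂ hr).2 h'
  obtain ⟨a, ha, hae⟩ := D.exists_J_rep hx' hn hflat
  rw [← hae] at hn hn'
  rw [← act_mul, ← map_mul] at hn'
  rw [OkG, ← hae, D.kG_J ha hn, ← act_mul, ← map_mul,
    D.kG_J (mul_mem (Subgroup.mem_sup_left hs) ha) hn', mul_smul]

theorem reach {x : Fin m → F} (hx : D.Vec₁ x) (h : D.Nice x) {z : F}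
    (hν : 1 - T (q := q) (D.k + 3) x ≠ 0) (hz : nm c z = 1 - T (q := q) (D.k + 3) x) :
    ∃ a ∈ D.J, D.OkG a x ∧ co (act (C.π a) x) D.k = 0 ∧ co (act (C.π a) x) (D.k + 1) = 0 ∧
      co (act (C.π a) x) (D.k + 2) = z := by
  have := D.hk
  classical
  set T3 := T (q := q) (D.k + 3) x with hT3
  have hT := hx.2
  rw [T_succ c D.k, T_succ c (D.k + 1), T_succ c (D.k + 1 + 1)] at hT
  change nm c (co x D.k) + (nm c (co x (D.k + 1)) + (nm c (co x (D.k + 2)) + T3)) = 1 at hT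
  have hT3f : c.σ T3 = T3 := c.herm_self _
  obtain ⟨g, hg, hg1, hg2⟩ : ∃ g ∈ Blk c m (D.k + 1) 2,
      nm c (co (act g x) (D.k + 2)) + T3 ≠ 0 ∧
        1 - T3 - nm c (co (act g x) (D.k + 2)) ≠ 0 := by
    by_cases hp : co x (D.k + 1) = 0 ∧ co x (D.k + 2) = 0
    · refine ⟨1, one_mem _, ?_, ?_⟩ <;> rw [act_one, hp.2, nm_zero]
      · rw [zero_add]
        intro h0
        refine h ?_
        rw [hp.1, hp.2, h0, nm_zero] at hT
        linear_combination hT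
      · rw [sub_zero]; exact hν
    · obtain ⟨u, hu, hu'⟩ := exists_fixed_notMem c D.hF
        ({-T3, 1 - T3, 0} : Finset F) (Finset.card_le_three.trans_lt D.hq)
      simp only [Finset.mem_insert, Finset.mem_singleton, not_or] at hu'
      have hne : co x (D.k + 1) ≠ 0 ∨ co x (D.k + 1 + 1) ≠ 0 := by
        show co x (D.k + 1) ≠ 0 ∨ co x (D.k + 2) ≠ 0
        exact not_and_or.1 hp
      set P := nm c (co x (D.k + 1)) + nm c (co x (D.k + 1 + 1)) with hP
      obtain ⟨g, hg, hgn⟩ := move_norm c D.hk12 x (k := P - u) hne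
        (by rw [hP, map_sub, map_add, nm_fixed, nm_fixed, hu])
        (fun e e' => hu'.2.2 (by rw [hP, e] at e'; linear_combination -e'))
      have hk2 : nm c (co (act g x) (D.k + 2)) = u := by
        have h1 := T_Blk c hg (Or.inl le_rfl) x
        rw [T_succ c (D.k + 1), T_succ c (D.k + 1 + 1), T_succ c (D.k + 1) x,
          T_succ c (D.k + 1 + 1) x, hgn, T_Blk c hg (Or.inr (le_of_eq rfl))] at h1
        show nm c (co (act g x) (D.k + 1 + 1)) = u
        linear_combination h1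
      exact ⟨g, hg, by rw [hk2]; exact fun e => hu'.1 (by linear_combination e),
        by rw [hk2]; exact sub_ne_zero.2 (Ne.symm hu'.2.1)⟩
  obtain ⟨h₁, hh₁, rfl⟩ := D.exists_S₁ hg
  set y := act (C.π h₁) x with hy
  have hh₁L := D.S₁_le_L hh₁
  have hyV : D.Vec₁ y := D.vec_act (D.π_S₁ hh₁) (by omega) hx
  have hyN : D.Nice y := (D.nice_L hh₁L).2 h
  have hyT : T (q := q) (D.k + 3) y = T3 := by rw [hy, T_Blk c (D.π_S₁ hh₁) (Or.inr le_rfl)]
  have hTy := hyV.2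
  rw [T_succ c D.k, T_succ c (D.k + 1), T_succ c (D.k + 1 + 1)] at hTy
  change nm c (co y D.k) + (nm c (co y (D.k + 1)) + (nm c (co y (D.k + 2)) +
    T (q := q) (D.k + 3) y)) = 1 at hTy
  rw [hyT] at hTy
  obtain ⟨b, hb⟩ := exists_nm c (k := nm c (co y D.k) + nm c (co y (D.k + 1)))
    (by rw [map_add, nm_fixed, nm_fixed])
  obtain ⟨g₀, hg₀, hs0, hs1⟩ := move_frame c D.hk2 y (a := 0) (b := b)
    (fun e => hg2 (by linear_combination -hTy + e)) (by rw [nm_zero, zero_add, hb])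
  obtain ⟨s, hs, rfl⟩ := D.exists_S₀ hg₀
  set y' := act (C.π s) y with hy'
  have hy'N : D.Nice y' := by rw [Nice, hs0, nm_zero]; exact zero_ne_one
  have hw : D.Aniso y := Or.inl (by
    rw [T_succ c (D.k + 2)]
    change nm c (co y (D.k + 2)) + T (q := q) (D.k + 3) y ≠ 0
    rw [hyT]; exact hg1)
  have hy'2 : co y' (D.k + 2) = co y (D.k + 2) := co_Blk c (D.π_S₀ hs) (Or.inr le_rfl) y
  obtain ⟨g₂, hg₂, hh2, hh3⟩ := move_frame c D.hk12 y' (a := 0) (b := z)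
    (by
      show nm c (co y' (D.k + 1)) + nm c (co y' (D.k + 2)) ≠ 0
      rw [hs1, hy'2, hb]
      exact fun e => hν (by linear_combination e - hTy))
    (by
      show nm c 0 + nm c z = nm c (co y' (D.k + 1)) + nm c (co y' (D.k + 2))
      rw [hs1, hy'2, hb, hz, nm_zero]
      linear_combination -hTy)
  obtain ⟨h₂, hh₂, rfl⟩ := D.exists_S₁ hg₂
  have e : act (C.π (h₂ * (s * h₁))) x = act (C.π h₂) y' := by
    rw [map_mul, map_mul, act_mul, act_mul]
  refine ⟨h₂ * (s * h₁), mul_mem (Subgroup.mem_sup_right hh₂)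
    (mul_mem (Subgroup.mem_sup_left hs) (Subgroup.mem_sup_right hh₁)), ?_, ?_, ?_, ?_⟩
  · refine OkG.mul (OkG.mul (D.okG_L hh₁L hx h) (D.okG_S₀_aniso hs hyV hyN hy'N hw)) ?_
    rw [map_mul, act_mul]
    exact D.okG_L (D.S₁_le_L hh₂) (D.vec_act (D.π_S₀ hs) le_rfl hyV) hy'N
  · rw [e, co_Blk c (D.π_S₁ hh₂) (Or.inl (Nat.lt_succ_self _)), hs0]
  · rw [e]; exact hh2
  · rw [e]; exact hh3

theorem okG_S₀ {s : K} (hs : s ∈ C.S D.k) {x : Fin m → F} (hx : D.Vec₁ x) (h : D.Nice x)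
    (h' : D.Nice (act (C.π s) x)) : D.OkG s x := by
  have := D.hk
  classical
  by_cases hw : D.Aniso x
  · exact D.okG_S₀_aniso hs hx h h' hw
  simp only [Aniso, not_or, ne_eq, not_not, not_forall] at hw
  obtain ⟨hw0, j, hj, hwj⟩ := hw
  obtain ⟨r, hr, hν⟩ : ∃ r ∈ D.L₂, 1 - T (q := q) (D.k + 3) (act (C.π r) x) ≠ 0 := by
    by_cases hν : 1 - T (q := q) (D.k + 3) x = 0
    swap
    · exact ⟨1, one_mem _, by rw [map_one, act_one]; exact hν⟩
    have h4 : D.k + 4 ≤ m := by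
      by_contra h4
      rw [T_of_le c (by omega), sub_zero] at hν
      exact one_ne_zero hν
    have h2 : co x (D.k + 2) ≠ 0 := fun e => by
      rw [T_succ c (D.k + 2), e, nm_zero, zero_add] at hw0
      rw [show D.k + 3 = D.k + 2 + 1 from rfl, hw0, sub_zero] at hν
      exact one_ne_zero hν
    obtain ⟨u, hu, hu'⟩ := exists_fixed_notMem c D.hF ({0, -1} : Finset F)
      (Finset.card_le_two.trans_lt (lt_trans (Nat.lt_succ_self 2) D.hq))
    simp only [Finset.mem_insert, Finset.mem_singleton, not_or] at hu'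
    obtain ⟨g, hg, hgn⟩ := move_norm c (show D.k + 2 + 2 ≤ m by omega) x (Or.inl h2) hu
      (fun _ => hu'.1)
    obtain ⟨a, ha, rfl⟩ := (C.map_S (D.k + 2) (by omega)).ge hg
    refine ⟨a, C.S_le_Fam le_rfl (by omega) ha, ?_⟩
    have h1 := T_Blk c (C.map_mem_S (by omega) ha) (Or.inl le_rfl) x
    rw [T_succ c (D.k + 2), hgn, hw0] at h1
    intro e
    exact hu'.2 (by change u + T (q := q) (D.k + 3) (act (C.π a) x) = 0 at h1; linear_combination h1 + e)
  refine D.transfer hs hr hx h h' ?_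
  set y := act (C.π r) x with hy
  have hy1 : D.Vec₁ y := D.vec_act (D.π_L₂ hr) (by omega) hx
  have hyN : D.Nice y := (D.nice_L₂ hr).2 h
  have hsy : D.Nice (act (C.π s) y) := by
    rw [hy, ← act_mul, ← map_mul, D.comm_L₂ hs hr, map_mul, act_mul]
    exact (D.nice_L₂ hr).2 h'
  have hy2 : D.Vec₁ (act (C.π s) y) := D.vec_act (D.π_S₀ hs) le_rfl hy1
  have hT' : T (q := q) (D.k + 3) (act (C.π s) y) = T (q := q) (D.k + 3) y :=
    T_Blk c (D.π_S₀ hs) (Or.inr (by omega)) y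
  obtain ⟨z, hz⟩ := exists_nm c (k := 1 - T (q := q) (D.k + 3) y)
    (by rw [map_sub, map_one]; exact congrArg _ (c.herm_self _))
  have hz0 : z ≠ 0 := fun e => hν (by rw [← hz, e, nm_zero])
  obtain ⟨a₁, ha₁, ok₁, p0, p1, p2⟩ := D.reach hy1 hyN hν hz
  obtain ⟨a₂, ha₂, ok₂, r0, r1, r2⟩ := D.reach hy2 hsy (hT' ▸ hν) (hT'.symm ▸ hz)
  set p := act (C.π a₁) y with hp
  have hsame : act (C.π a₂) (act (C.π s) y) = p := by
    refine co_ext fun j _ => ?_
    by_cases h0 : j = D.k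
    · subst h0; rw [r0, p0]
    by_cases h1 : j = D.k + 1
    · subst h1; rw [r1, p1]
    by_cases h2 : j = D.k + 2
    · subst h2; rw [r2, p2]
    rw [co_Blk c (D.π_J ha₂) (by omega), co_Blk c (D.π_S₀ hs) (by omega), hp,
      co_Blk c (D.π_J ha₁) (by omega)]
  have hbJ : a₂ * s * a₁⁻¹ ∈ D.J :=
    mul_mem (mul_mem ha₂ (Subgroup.mem_sup_left hs)) (inv_mem ha₁)
  have hfix : act (C.π (a₂ * s * a₁⁻¹)) p = p := by
    rw [map_mul, map_mul, map_inv, act_mul, act_mul, hp, act_inv_act, hsame]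
  have hB : C.π (a₂ * s * a₁⁻¹) ∈ Blk c m D.k 2 := by
    intro l hl
    by_cases h2 : (l : ℕ) = D.k + 2
    · rw [← ev_eq_single, h2]
      have hrest : act (C.π (a₂ * s * a₁⁻¹)) (p - z • ev m F (D.k + 2)) =
          p - z • ev m F (D.k + 2) := act_fix_of_support fun i => by
        by_cases hi : (i : ℕ) < D.k ∨ D.k + 3 ≤ (i : ℕ)
        · exact Or.inl (D.π_J hbJ i hi)
        · refine Or.inr ?_
          rw [Pi.sub_apply, Pi.smul_apply, smul_eq_mul, ← co_apply p i]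
          simp only [ev]
          rcases (show (i : ℕ) = D.k ∨ (i : ℕ) = D.k + 1 ∨ (i : ℕ) = D.k + 2 by omega) with e | e | e <;>
            rw [e] <;> simp [p0, p1, p2]
      have h3 : z • act (C.π (a₂ * s * a₁⁻¹)) (ev m F (D.k + 2)) = z • ev m F (D.k + 2) := by
        have h4 := hfix
        rw [show p = z • ev m F (D.k + 2) + (p - z • ev m F (D.k + 2)) by abel, act_add, act_smul,
          hrest, add_left_inj] at h4
        exact h4
      have h5 := congrArg (fun w => z⁻¹ • w) h3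
      simpa [smul_smul, hz0] using h5
    · exact D.π_J hbJ l (by omega)
  obtain ⟨s₃, hs₃, he⟩ := D.exists_S₀ hB
  have heq : s₃ = a₂ * s * a₁⁻¹ := D.inj_J.eq (Subgroup.mem_sup_left hs₃) hbJ he
  have hp1 : D.Vec₁ p := D.vec_act (D.π_J ha₁) le_rfl hy1
  have hpN : D.Nice p := by rw [Nice, p0, nm_zero]; exact zero_ne_one
  have hpA : D.Aniso p := Or.inl (by
    have h1 := hp1.2
    rw [T_succ c D.k, p0, nm_zero, zero_add, T_succ c (D.k + 1), p1, nm_zero, zero_add] at h1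
    change T (q := q) (D.k + 2) p = 1 at h1
    rw [h1]; exact one_ne_zero)
  have ok₃ : D.OkG s₃ p := D.okG_S₀_aniso hs₃ hp1 hpN (by
    rw [heq, hfix]; exact hpN) hpA
  rw [show s = a₂⁻¹ * (s₃ * a₁) by rw [heq]; group]
  refine OkG.mul (OkG.mul ok₁ ok₃) ?_
  rw [map_mul, act_mul, show act (C.π s₃) p = p by rw [heq, hfix], ← hsame]
  exact ok₂.inv

/-- An element of the first block moving a vector to a nice one. -/
theorem exists_nice (x : Fin m → F) : ∃ s ∈ C.S D.k, D.Nice (act (C.π s) x) := by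
  by_cases h : co x D.k ≠ 0 ∨ co x (D.k + 1) ≠ 0
  · classical
    obtain ⟨u, hu, hu'⟩ := exists_fixed_notMem c D.hF ({0, 1} : Finset F)
      (Finset.card_le_two.trans_lt (lt_trans (Nat.lt_succ_self 2) D.hq))
    simp only [Finset.mem_insert, Finset.mem_singleton, not_or] at hu'
    obtain ⟨g, hg, hgn⟩ := move_norm c D.hk2 x h hu (fun _ => hu'.1)
    obtain ⟨s, hs, rfl⟩ := D.exists_S₀ hg
    exact ⟨s, hs, by rw [Nice, hgn]; exact hu'.2⟩
  · simp only [ne_eq, not_or, not_not] at h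
    exact ⟨1, one_mem _, by rw [Nice, map_one, act_one, h.1, nm_zero]; exact zero_ne_one⟩

/-- The section. -/
noncomputable def kap (x : Fin m → F) : K ⧸ D.L :=
  (D.exists_nice x).choose⁻¹ • D.kG (act (C.π (D.exists_nice x).choose) x)

theorem kap_eq {x : Fin m → F} (hx : D.Vec₁ x) {s : K} (hs : s ∈ C.S D.k)
    (h : D.Nice (act (C.π s) x)) : D.kap x = s⁻¹ • D.kG (act (C.π s) x) := by
  obtain ⟨hs₁, h₁⟩ := (D.exists_nice x).choose_spec
  set s₁ := (D.exists_nice x).choose with hs₁def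
  have hsx : act (C.π (s * s₁⁻¹)) (act (C.π s₁) x) = act (C.π s) x := by
    rw [map_mul, map_inv, act_mul, act_inv_act]
  have := D.okG_S₀ (mul_mem hs (inv_mem hs₁)) (D.vec_act (D.π_S₀ hs₁) le_rfl hx) h₁
    (by rw [hsx]; exact h)
  rw [OkG, hsx] at this
  rw [kap, ← hs₁def, ← this, ← mul_smul, inv_mul_cancel_left]

theorem kap_nice {x : Fin m → F} (hx : D.Vec₁ x) (h : D.Nice x) : D.kap x = D.kG x := by
  rw [D.kap_eq hx (one_mem _) (by rwa [map_one, act_one]), map_one, act_one, inv_one, one_smul]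

/-- The section commutes with an element at a vector. -/
def Ok (a : K) (x : Fin m → F) : Prop := a • D.kap x = D.kap (act (C.π a) x)

variable {D}

theorem Ok.mul {a b : K} {x : Fin m → F} (hb : D.Ok b x) (ha : D.Ok a (act (C.π b) x)) :
    D.Ok (a * b) x := by
  rw [Ok, mul_smul, hb, ha, map_mul, act_mul]

theorem Ok.inv {a : K} {x : Fin m → F} (h : D.Ok a x) : D.Ok a⁻¹ (act (C.π a) x) := by
  rw [Ok, inv_smul_eq_iff, map_inv, act_inv_act, ← h]

variable (D)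

theorem ok_S₀ {s : K} (hs : s ∈ C.S D.k) {x : Fin m → F} (hx : D.Vec₁ x) : D.Ok s x := by
  obtain ⟨s₁, hs₁, h⟩ := D.exists_nice x
  have e : act (C.π (s₁ * s⁻¹)) (act (C.π s) x) = act (C.π s₁) x := by
    rw [map_mul, map_inv, act_mul, act_inv_act]
  rw [Ok, D.kap_eq hx hs₁ h, D.kap_eq (D.vec_act (D.π_S₀ hs) le_rfl hx) (mul_mem hs₁ (inv_mem hs))
    (by rw [e]; exact h), e, ← mul_smul, _root_.mul_inv_rev, inv_inv]

theorem ok_L_nice {a : K} (ha : a ∈ D.L) {x : Fin m → F} (hx : D.Vec₁ x) (h : D.Nice x) :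
    D.Ok a x := by
  rw [Ok, D.kap_nice hx h, D.kap_nice (D.vec_act (D.π_L ha) (Nat.le_succ _) hx)
    ((D.nice_L ha).2 h)]
  exact D.okG_L ha hx h

theorem ok_L₂ {a : K} (ha : a ∈ D.L₂) {x : Fin m → F} (hx : D.Vec₁ x) : D.Ok a x := by
  obtain ⟨s, hs, h⟩ := D.exists_nice x
  rw [show a = s⁻¹ * (a * s) by rw [← D.comm_L₂ hs ha]; group]
  refine Ok.mul (Ok.mul (D.ok_S₀ hs hx) (D.ok_L_nice (D.L₂_le_L ha)
    (D.vec_act (D.π_S₀ hs) le_rfl hx) h)) ?_
  have : C.π (a * s) ∈ Blk c m D.k m := by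
    rw [map_mul]
    exact mul_mem (fun l hl => D.π_L₂ ha l (by have := l.isLt; omega))
      (Blk_mono c le_rfl (by have := D.hk; omega) (D.π_S₀ hs))
  exact D.ok_S₀ (inv_mem hs) (D.vec_act this le_rfl hx)

theorem ok_J_nice {a : K} (ha : a ∈ D.J) {x : Fin m → F} (hx : D.Vec₁ x) (h : D.Nice x) :
    D.Ok a x := by
  obtain ⟨g₀, hg₀, g₁, hg₁, g₂, hg₂, g₃, hg₃, hg, hn⟩ :=
    block_decomp c D.hF D.hq D.hk (D.π_J ha) x
  obtain ⟨s₀, hs₀, rfl⟩ := D.exists_S₀ hg₀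
  obtain ⟨h₁, hh₁, rfl⟩ := D.exists_S₁ hg₁
  obtain ⟨s₂, hs₂, rfl⟩ := D.exists_S₀ hg₂
  obtain ⟨h₃, hh₃, rfl⟩ := D.exists_S₁ hg₃
  have e : a = s₀ * (h₁ * (s₂ * h₃)) := D.inj_J.eq ha
    (mul_mem (Subgroup.mem_sup_left hs₀) (mul_mem (Subgroup.mem_sup_right hh₁)
      (mul_mem (Subgroup.mem_sup_left hs₂) (Subgroup.mem_sup_right hh₃))))
    (by rw [hg, map_mul, map_mul, map_mul]; group)
  rw [e] at hn ⊢
  rw [map_mul, act_mul, act_inv_act, map_mul, act_mul] at hn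
  have hh₃L := D.S₁_le_L hh₃
  have v3 : D.Vec₁ (act (C.π h₃) x) := D.vec_act (D.π_S₁ hh₃) (Nat.le_succ _) hx
  have v2 : D.Vec₁ (act (C.π (s₂ * h₃)) x) := by
    rw [map_mul, act_mul]; exact D.vec_act (D.π_S₀ hs₂) le_rfl v3
  have v1 : D.Vec₁ (act (C.π (h₁ * (s₂ * h₃))) x) := by
    rw [map_mul, act_mul]; exact D.vec_act (D.π_S₁ hh₁) (Nat.le_succ _) v2
  refine Ok.mul (Ok.mul (Ok.mul (D.ok_L_nice hh₃L hx h) (D.ok_S₀ hs₂ v3)) ?_) (D.ok_S₀ hs₀ v1)
  exact D.ok_L_nice (D.S₁_le_L hh₁) v2 ((D.nice_L (D.S₁_le_L hh₁)).1 hn)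

theorem ok_J {a : K} (ha : a ∈ D.J) {x : Fin m → F} (hx : D.Vec₁ x) : D.Ok a x := by
  obtain ⟨s, hs, h⟩ := D.exists_nice x
  rw [show a = (a * s⁻¹) * s by group]
  exact Ok.mul (D.ok_S₀ hs hx) (D.ok_J_nice (mul_mem ha (inv_mem (Subgroup.mem_sup_left hs)))
    (D.vec_act (D.π_S₀ hs) le_rfl hx) h)

/-- The elements commuting with the section everywhere. -/
def Stable : Subgroup K where
  carrier := {a | C.π a ∈ Blk c m D.k m ∧ ∀ x, D.Vec₁ x → D.Ok a x}
  one_mem' := ⟨by rw [map_one]; exact one_mem _,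
    fun x _ => by rw [Ok, map_one, act_one, one_smul]⟩
  mul_mem' := fun {a b} ha hb => ⟨by rw [map_mul]; exact mul_mem ha.1 hb.1,
    fun x hx => Ok.mul (hb.2 x hx) (ha.2 _ (D.vec_act hb.1 le_rfl hx))⟩
  inv_mem' := fun {a} ha => ⟨by rw [map_inv]; exact inv_mem ha.1, fun x hx => by
    have hx' : D.Vec₁ (act (C.π a⁻¹) x) := D.vec_act (by rw [map_inv]; exact inv_mem ha.1) le_rfl hx
    have := (ha.2 _ hx').inv
    rwa [map_inv, act_act_inv] at this⟩

theorem fam_le_stable : C.Fam D.k ≤ D.Stable := by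
  have := D.hk
  refine C.Fam_le fun j hj hj' a ha =>
    ⟨fun l hl => C.map_mem_S hj' ha l (by have := l.isLt; omega), fun x hx => ?_⟩
  rcases (show j = D.k ∨ j = D.k + 1 ∨ D.k + 2 ≤ j by omega) with rfl | rfl | h
  · exact D.ok_S₀ ha hx
  · exact D.ok_J (Subgroup.mem_sup_right ha) hx
  · exact D.ok_L₂ (C.S_le_Fam h hj' ha) hx

include D in
/-- The inductive step. -/
theorem good : C.Good D.k := by
  have := D.hk
  have hkap : D.kap D.e = D.base := by
    obtain ⟨s, hs, h⟩ := D.exists_nice D.e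
    rw [D.kap_eq D.vec_e hs h, D.kG_eq (D.vec_act (D.π_S₀ hs) le_rfl D.vec_e) h
      ⟨1, one_mem _, s, hs, by rw [one_mul], rfl⟩, one_mul, inv_smul_smul]
  have hS : ∀ {a : K}, a ∈ C.S D.k → a ∈ C.Fam D.k := fun ha => C.S_le_Fam le_rfl D.hk2 ha
  have hreach : ∀ x, D.Vec₁ x → ∃ a ∈ C.Fam D.k, act (C.π a) D.e = x := by
    intro x hx
    obtain ⟨s, hs, h⟩ := D.exists_nice x
    obtain ⟨_, l, hl, s', hs', hse, -⟩ := D.ch_exists (D.vec_act (D.π_S₀ hs) le_rfl hx) h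
    refine ⟨s⁻¹ * (l * s'), mul_mem (inv_mem (hS hs))
      (mul_mem (C.Fam_anti (Nat.le_succ _) hl) (hS hs')), ?_⟩
    rw [map_mul C.π s⁻¹, act_mul, hse, map_inv, act_inv_act]
  refine ⟨fun a ha h => ?_, fun g hg => ?_, fun _ x hx hT => ?_⟩
  · have h1 := (D.fam_le_stable ha).2 D.e D.vec_e
    rw [Ok, h, act_one, hkap, D.smul_base, base] at h1
    have h2 : a ∈ D.L := by simpa using (QuotientGroup.eq.1 h1.symm)
    exact D.hI.inj a h2 h
  · obtain ⟨a, ha, hae⟩ := hreach (act g D.e)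
      ⟨Sup.act c hg le_rfl D.vec_e.1, by rw [T_Blk c hg (Or.inl le_rfl)]; exact D.vec_e.2⟩
    have hB : (C.π a)⁻¹ * g ∈ Blk c m (D.k + 1) m := fun l hl => by
      by_cases hlk : (l : ℕ) = D.k
      · rw [← ev_eq_single, hlk, act_mul]
        change act (C.π a)⁻¹ (act g D.e) = D.e
        rw [← hae, act_inv_act]
      · exact mul_mem (inv_mem (C.map_mem_Fam ha)) hg l (by omega)
    obtain ⟨b, hb, he⟩ := D.hI.map hB
    exact ⟨a * b, mul_mem ha (C.Fam_anti (Nat.le_succ _) hb), by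
      rw [map_mul, he, mul_inv_cancel_left]⟩
  · obtain ⟨a, ha, hae⟩ := hreach x ⟨hx, hT⟩
    exact ⟨_, C.map_mem_Fam ha, hae⟩

end Lvl

end CfsgLib.SUAmalgam
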