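/-
The special unitary group is the only cover generated by its small blocks.
-/
import Cfsg.Agent.Lib.SUAmalgam.Section

set_option autoImplicit false
set_option linter.unusedSectionVars false

open Matrix

namespace CfsgLib.SUAmalgam

open CfsgLib.ClassicalForms

variable {F : Type*} [Field F] [Fintype F] {q m : ℕ} {c : Conj F q} {K : Type*} [Group K]

namespace Cover

variable (C : Cover c m K) (hF : Nat.card F = q ^ 2) (hq : 3 < q)
include hF hq

/-- Every level of the induction holds. -/
theorem good (k : ℕ) : C.Good k := by
  suffices ∀ d k, m ≤ k + d → C.Good k from this m k (Nat.le_add_left m k)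
  intro d
  induction d using Nat.strong_induction_on with
  | h d ih =>
    intro k hd
    by_cases h1 : m ≤ k + 1
    · exact C.good_top h1
    by_cases h2 : k + 2 = m
    · exact C.good_two h2
    exact Lvl.good (C := C)
      { k := k, hk := by omega, hI := ih (d - 1) (by omega) (k + 1) (by omega),
        hI2 := ih (d - 1) (by omega) (k + 2) (by omega), hF := hF, hq := hq }

theorem Blk_zero_eq_top (c : Conj F q) : Blk c m 0 m = ⊤ :=
  eq_top_iff.2 fun _ _ l hl => absurd hl (by have := l.isLt; omega)

/-- A cover is the special unitary group as soon as it is generated by the blocks. -/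
theorem bijective (hgen : C.Fam 0 = ⊤) : Function.Bijective C.π := by
  have h := C.good hF hq 0
  refine ⟨(injective_iff_map_eq_one C.π).2 fun a => h.inj a (by rw [hgen]; exact Subgroup.mem_top a),
    fun g => ?_⟩
  obtain ⟨a, -, ha⟩ := h.map (show g ∈ Blk c m 0 m by
    rw [Blk_zero_eq_top hF hq c]; exact Subgroup.mem_top g)
  exact ⟨a, ha⟩

end Cover

end CfsgLib.SUAmalgam
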