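/-
Coherence of standard pairs along a path.
-/
import Cfsg.Agent.Lib.SUAmalgam.Main
import Cfsg.Agent.Lib.SUAmalgam.Auto

set_option autoImplicit false
set_option linter.unusedSectionVars false

open Matrix

namespace CfsgLib.SUAmalgam

open CfsgLib.ClassicalForms

variable {F : Type*} [Field F] [Fintype F] {q m r : ℕ} (c : Conj F q)

theorem map_conj (τ : F ≃+* F) (x : F) : τ (c.σ x) = c.σ (τ x) := by rw [c.apply, c.apply, map_pow]

theorem nm_mul_conj {a : F} (h : nm c a = 1) (x y : F) : a * x * c.σ (a * y) = x * c.σ y := by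
  unfold nm at h
  rw [map_mul]
  linear_combination (x * c.σ y) * h

/-- The diagonal semilinear automorphism. -/
noncomputable def semi (d : Fin r → F) (hd : ∀ i, nm c (d i) = 1) (τ : F ≃+* F) :
    SUg r F q →* SUg r F q where
  toFun g := mk (Matrix.diagonal d * (mat g).map τ * Matrix.diagonal fun i => c.σ (d i))
    (by
      rw [Matrix.det_mul, Matrix.det_mul, Matrix.det_diagonal, Matrix.det_diagonal,
        show ((mat g).map τ).det = 1 from (Matrix.SpecialLinearGroup.map τ.toRingHom g.1).2, mul_one,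
        ← Finset.prod_mul_distrib]
      exact Finset.prod_eq_one fun i _ => hd i)
    (fun x y => by
      have h1 : ∀ z, ((mat g).map τ *ᵥ z) = fun k => τ (act g (fun l => τ.symm (z l)) k) := by
        intro z
        funext k
        simp [act, Matrix.mulVec, dotProduct, map_sum, map_mul]
      rw [← Matrix.mulVec_mulVec, ← Matrix.mulVec_mulVec, ← Matrix.mulVec_mulVec, ← Matrix.mulVec_mulVec]
      simp only [c.herm_apply, Matrix.mulVec_diagonal, nm_mul_conj c (hd _), h1, ← map_conj c,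
        ← map_mul, ← map_sum]
      rw [← c.herm_apply, herm_act, c.herm_apply, map_sum]
      refine Finset.sum_congr rfl fun i _ => ?_
      rw [map_mul, map_conj c, τ.apply_symm_apply, τ.apply_symm_apply]
      exact nm_mul_conj c (by rw [nm_conj]; exact hd i) (x i) (y i))
  map_one' := Subtype.ext (Subtype.ext (by
    show Matrix.diagonal d * (1 : Matrix (Fin r) (Fin r) F).map τ * _ = 1
    rw [Matrix.map_one τ (map_zero τ) (map_one τ), Matrix.mul_one, Matrix.diagonal_mul_diagonal,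
      show (fun i => d i * c.σ (d i)) = fun _ => (1 : F) from funext hd, Matrix.diagonal_one]))
  map_mul' g h := Subtype.ext (Subtype.ext (by
    show Matrix.diagonal d * (mat g * mat h).map τ * _ = (Matrix.diagonal d * _ * _) * (_ * _ * _)
    rw [Matrix.map_mul]
    simp only [Matrix.mul_assoc]
    congr 2
    rw [← Matrix.mul_assoc (Matrix.diagonal fun i => c.σ (d i)) (Matrix.diagonal d),
      Matrix.diagonal_mul_diagonal,
      show (fun i => c.σ (d i) * d i) = fun _ => (1 : F) from funext fun i => by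
        rw [mul_comm]; exact hd i,
      Matrix.diagonal_one, Matrix.one_mul]))

theorem mat_semi (d : Fin r → F) (hd : ∀ i, nm c (d i) = 1) (τ : F ≃+* F) (g : SUg r F q) :
    mat (semi c d hd τ g) = Matrix.diagonal d * (mat g).map τ * Matrix.diagonal fun i => c.σ (d i) := rfl

theorem mat_semi_apply (d : Fin r → F) (hd : ∀ i, nm c (d i) = 1) (τ : F ≃+* F) (g : SUg r F q)
    (k l : Fin r) : mat (semi c d hd τ g) k l = d k * τ (mat g k l) * c.σ (d l) := by
  simp [mat_semi, Matrix.mul_diagonal, Matrix.diagonal_mul]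

theorem semi_bijective (d : Fin r → F) (hd : ∀ i, nm c (d i) = 1) (τ : F ≃+* F) :
    Function.Bijective (semi c d hd τ) := by
  refine Finite.injective_iff_bijective.1 fun g h e => Subtype.ext (Subtype.ext ?_)
  ext k l
  have h1 := congrArg (fun z => mat z k l) e
  have hne : ∀ i, d i ≠ 0 := fun i e0 => by
    have := hd i; rw [e0, nm_zero] at this; exact zero_ne_one this
  simp only [mat_semi_apply] at h1
  exact τ.injective (mul_left_cancel₀ (hne k)
    (mul_right_cancel₀ (fun e0 => hne l (c.eq_zero e0)) h1))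

theorem ext_mat {g h : SUg m F q} (e : ∀ k l, mat g k l = mat h k l) : g = h :=
  Subtype.ext (Subtype.ext (Matrix.ext e))

theorem mat_emb_shift (i : ℕ) (hi : i + r ≤ m) (g : SUg r F q) (a b : Fin r) :
    mat (emb c i hi g) (shift i hi a) (shift i hi b) = mat g a b := by
  rw [← act_single, act_emb_shift,
    show (fun x => (Pi.single (shift i hi b) (1 : F) : Fin m → F) (shift i hi x)) = Pi.single b 1 from
      funext fun x => by simp [Pi.single_apply, (shift_injective i hi).eq_iff],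
    act_single]

theorem mat_emb_other (i : ℕ) (hi : i + r ≤ m) (g : SUg r F q) {k l : Fin m}
    (h : ((k : ℕ) < i ∨ i + r ≤ k) ∨ ((l : ℕ) < i ∨ i + r ≤ l)) :
    mat (emb c i hi g) k l = (Pi.single l (1 : F) : Fin m → F) k := by
  rw [← act_single]
  rcases h with h | h
  · exact act_emb_other c i hi g _ h
  · exact congrFun (emb_mem_Blk c i hi g l h) k

theorem semi_emb (i : ℕ) (hi : i + r ≤ m) (d : Fin m → F) (hd : ∀ k, nm c (d k) = 1) (τ : F ≃+* F)
    (g : SUg r F q) : semi c d hd τ (emb c i hi g) =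
      emb c i hi (semi c (fun a => d (shift i hi a)) (fun a => hd _) τ g) := by
  refine ext_mat fun k l => ?_
  rw [mat_semi_apply]
  by_cases h : ((k : ℕ) < i ∨ i + r ≤ k) ∨ ((l : ℕ) < i ∨ i + r ≤ l)
  · rw [mat_emb_other c i hi g h, mat_emb_other c i hi _ h]
    by_cases hkl : k = l
    · subst hkl; simpa [nm] using hd k
    · simp [hkl]
  · simp only [not_or, not_lt, not_le] at h
    obtain ⟨⟨h1, h2⟩, h3, h4⟩ := h
    obtain ⟨a, rfl⟩ : ∃ a, shift (r := r) i hi a = k :=
      ⟨⟨k - i, by omega⟩, Fin.ext (show i + ((k : ℕ) - i) = k by omega)⟩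
    obtain ⟨b, rfl⟩ : ∃ b, shift (r := r) i hi b = l :=
      ⟨⟨l - i, by omega⟩, Fin.ext (show i + ((l : ℕ) - i) = l by omega)⟩
    rw [mat_emb_shift, mat_emb_shift, mat_semi_apply]

theorem Blk_comm {i j r' : ℕ} {a b : SUg m F q} (ha : a ∈ Blk c m i r) (hb : b ∈ Blk c m j r')
    (h : i + r ≤ j) : a * b = b * a := by
  refine ext_act fun k => ?_
  rw [act_mul, act_mul]
  by_cases hk : (k : ℕ) < i ∨ i + r ≤ k
  · rw [ha k hk]
    refine act_fix_of_support fun l => ?_
    by_cases hl : (l : ℕ) < i ∨ i + r ≤ l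
    · exact Or.inl (ha l hl)
    · refine Or.inr ?_
      rw [act_coord c (hb l (by omega))]
      have : k ≠ l := fun e => hl (e ▸ hk)
      simp [Ne.symm this]
  · rw [hb k (by omega)]
    refine (act_fix_of_support fun l => ?_).symm
    by_cases hl : (l : ℕ) < j ∨ j + r' ≤ l
    · exact Or.inl (hb l hl)
    · refine Or.inr ?_
      rw [act_coord c (ha l (by omega))]
      have : k ≠ l := fun e => hk (Or.inr (e ▸ (by omega : i + r ≤ (l : ℕ))))
      simp [Ne.symm this]

variable {G : Type*} [Group G]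

/-- A homomorphism from the three-dimensional group realising a standard pair. -/
structure IsPair (V A B : Subgroup G) (φ : SUg 3 F q →* G) : Prop where
  range : φ.range = V
  range₀ : (φ.comp (emb (r := 2) c 0 (by norm_num))).range = A
  range₁ : (φ.comp (emb (r := 2) c 1 (by norm_num))).range = B
  inj₀ : Function.Injective (φ.comp (emb (r := 2) c 0 (by norm_num)))
  inj₁ : Function.Injective (φ.comp (emb (r := 2) c 1 (by norm_num)))

variable {c}

theorem IsPair.comp_semi {V A B : Subgroup G} {φ : SUg 3 F q →* G} (h : IsPair c V A B φ)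
    (d : Fin 3 → F) (hd : ∀ i, nm c (d i) = 1) (τ : F ≃+* F) :
    IsPair c V A B (φ.comp (semi c d hd τ)) := by
  have he : ∀ (i : ℕ) (hi : i + 2 ≤ 3), (φ.comp (semi c d hd τ)).comp (emb (r := 2) c i hi) =
      (φ.comp (emb (r := 2) c i hi)).comp (semi c (fun a => d (shift i hi a)) (fun a => hd _) τ) :=
    fun i hi => MonoidHom.ext fun g => congrArg φ (semi_emb c i hi d hd τ g)
  constructor
  · rw [MonoidHom.range_comp, MonoidHom.range_eq_top.2 (semi_bijective c d hd τ).2,
      ← MonoidHom.range_eq_map, h.range]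
  · rw [he, MonoidHom.range_comp, MonoidHom.range_eq_top.2 (semi_bijective c _ _ τ).2,
      ← MonoidHom.range_eq_map, h.range₀]
  · rw [he, MonoidHom.range_comp, MonoidHom.range_eq_top.2 (semi_bijective c _ _ τ).2,
      ← MonoidHom.range_eq_map, h.range₁]
  · rw [he]; exact h.inj₀.comp (semi_bijective c _ _ τ).1
  · rw [he]; exact h.inj₁.comp (semi_bijective c _ _ τ).1

theorem diag_eq_sb {g : SUg 2 F q} (h : IsDiag₂ g) :
    ∃ (t : F) (ht : nm c t + nm c 0 = 1), g = sb c t 0 ht := by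
  obtain ⟨h11, -⟩ := shape c g
  have hd : (mat g).det = 1 := g.1.2
  rw [Matrix.det_fin_two, h.1, h11, zero_mul, sub_zero] at hd
  refine ⟨mat g 0 0, by rw [nm_zero, add_zero]; exact hd, ext_mat fun k l => ?_⟩
  fin_cases k <;> fin_cases l <;> simp [mat_sb, h.1, h.2, h11]

theorem diag_comm {g h : SUg 2 F q} (hg : IsDiag₂ g) (hh : IsDiag₂ h) : g * h = h * g := by
  refine ext_mat fun k l => ?_
  rw [mat_mul, mat_mul]
  fin_cases k <;> fin_cases l <;> simp [Matrix.mul_apply, Fin.sum_univ_two, hg.1, hg.2, hh.1, hh.2,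
    mul_comm]

theorem mat_sb_zero (t : F) (ht : nm c t + nm c 0 = 1) :
    mat (sb c t 0 ht) = Matrix.diagonal ![t, c.σ t] := by
  rw [mat_sb]
  ext k l
  fin_cases k <;> fin_cases l <;> simp

/-- Conjugation of the second block by the torus of the first. -/
theorem conj_torus₀ (t : F) (ht : nm c t + nm c 0 = 1) (h : SUg 2 F q)
    (hd : ∀ i, nm c ((![c.σ t, 1] : Fin 2 → F) i) = 1) :
    emb c 0 (by norm_num : (0 : ℕ) + 2 ≤ 3) (sb c t 0 ht) * emb c 1 (by norm_num : 1 + 2 ≤ 3) h *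
      (emb c 0 (by norm_num : (0 : ℕ) + 2 ≤ 3) (sb c t 0 ht))⁻¹ =
    emb c 1 (by norm_num : 1 + 2 ≤ 3) (semi c _ hd (RingEquiv.refl F) h) := by
  have hd3 : ∀ i, nm c ((![t, c.σ t, 1] : Fin 3 → F) i) = 1 := by
    have htt : nm c t = 1 := by rwa [nm_zero, add_zero] at ht
    intro i; fin_cases i <;> simp [htt]
  have hm : mat (emb c 0 (by norm_num : (0 : ℕ) + 2 ≤ 3) (sb c t 0 ht)) =
      Matrix.diagonal ![t, c.σ t, 1] := by
    ext k l
    by_cases h : ((k : ℕ) < 0 ∨ 0 + 2 ≤ (k : ℕ)) ∨ ((l : ℕ) < 0 ∨ 0 + 2 ≤ (l : ℕ))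
    · rw [mat_emb_other c 0 _ _ h]
      fin_cases k <;> fin_cases l <;> simp at h ⊢
    · simp only [not_or, not_lt, not_le] at h
      obtain ⟨⟨-, h2⟩, -, h4⟩ := h
      obtain ⟨a, rfl⟩ : ∃ a, shift (r := 2) 0 (by norm_num : 0 + 2 ≤ 3) a = k :=
        ⟨⟨k, by omega⟩, Fin.ext (by simp [shift])⟩
      obtain ⟨b, rfl⟩ : ∃ b, shift (r := 2) 0 (by norm_num : 0 + 2 ≤ 3) b = l :=
        ⟨⟨l, by omega⟩, Fin.ext (by simp [shift])⟩
      rw [mat_emb_shift, mat_sb_zero]
      fin_cases a <;> fin_cases b <;> simp [shift]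
  have key : emb c 0 (by norm_num : (0 : ℕ) + 2 ≤ 3) (sb c t 0 ht) *
      emb c 1 (by norm_num : 1 + 2 ≤ 3) h =
      semi c _ hd3 (RingEquiv.refl F) (emb c 1 (by norm_num : 1 + 2 ≤ 3) h) *
        emb c 0 (by norm_num : (0 : ℕ) + 2 ≤ 3) (sb c t 0 ht) := by
    refine Subtype.ext (Subtype.ext ?_)
    show mat _ * mat _ = mat _ * mat _
    rw [hm, mat_semi]
    simp only [RingEquiv.coe_refl, Matrix.map_id, Matrix.mul_assoc, Matrix.diagonal_mul_diagonal]
    rw [show (fun i => c.σ ((![t, c.σ t, 1] : Fin 3 → F) i) * (![t, c.σ t, 1] : Fin 3 → F) i) =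
      fun _ => (1 : F) from funext fun i => by rw [mul_comm]; exact hd3 i, Matrix.diagonal_one,
      Matrix.mul_one]
  rw [key, mul_inv_cancel_right, semi_emb c 1 _ _ hd3]
  congr 1
  refine ext_mat fun k l => ?_
  rw [mat_semi_apply, mat_semi_apply]
  fin_cases k <;> fin_cases l <;> simp [shift]

/-- Conjugation of the first block by the torus of the second. -/
theorem conj_torus₁ (t : F) (ht : nm c t + nm c 0 = 1) (h : SUg 2 F q)
    (hd : ∀ i, nm c ((![1, t] : Fin 2 → F) i) = 1) :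
    emb c 1 (by norm_num : 1 + 2 ≤ 3) (sb c t 0 ht) * emb c 0 (by norm_num : (0 : ℕ) + 2 ≤ 3) h *
      (emb c 1 (by norm_num : 1 + 2 ≤ 3) (sb c t 0 ht))⁻¹ =
    emb c 0 (by norm_num : (0 : ℕ) + 2 ≤ 3) (semi c _ hd (RingEquiv.refl F) h) := by
  have hd3 : ∀ i, nm c ((![1, t, c.σ t] : Fin 3 → F) i) = 1 := by
    have htt : nm c t = 1 := by rwa [nm_zero, add_zero] at ht
    intro i; fin_cases i <;> simp [htt]
  have hm : mat (emb c 1 (by norm_num : 1 + 2 ≤ 3) (sb c t 0 ht)) =
      Matrix.diagonal ![1, t, c.σ t] := by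
    ext k l
    by_cases h : ((k : ℕ) < 1 ∨ 1 + 2 ≤ (k : ℕ)) ∨ ((l : ℕ) < 1 ∨ 1 + 2 ≤ (l : ℕ))
    · rw [mat_emb_other c 1 _ _ h]
      fin_cases k <;> fin_cases l <;> simp at h ⊢
    · simp only [not_or, not_lt, not_le] at h
      obtain ⟨⟨h1, h2⟩, h3, h4⟩ := h
      obtain ⟨a, rfl⟩ : ∃ a, shift (r := 2) 1 (by norm_num : 1 + 2 ≤ 3) a = k :=
        ⟨⟨(k : ℕ) - 1, by omega⟩, Fin.ext (by simp [shift]; omega)⟩
      obtain ⟨b, rfl⟩ : ∃ b, shift (r := 2) 1 (by norm_num : 1 + 2 ≤ 3) b = l :=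
        ⟨⟨(l : ℕ) - 1, by omega⟩, Fin.ext (by simp [shift]; omega)⟩
      rw [mat_emb_shift, mat_sb_zero]
      fin_cases a <;> fin_cases b <;> simp [shift]
  have key : emb c 1 (by norm_num : 1 + 2 ≤ 3) (sb c t 0 ht) *
      emb c 0 (by norm_num : (0 : ℕ) + 2 ≤ 3) h =
      semi c _ hd3 (RingEquiv.refl F) (emb c 0 (by norm_num : (0 : ℕ) + 2 ≤ 3) h) *
        emb c 1 (by norm_num : 1 + 2 ≤ 3) (sb c t 0 ht) := by
    refine Subtype.ext (Subtype.ext ?_)
    show mat _ * mat _ = mat _ * mat _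
    rw [hm, mat_semi]
    simp only [RingEquiv.coe_refl, Matrix.map_id, Matrix.mul_assoc, Matrix.diagonal_mul_diagonal]
    rw [show (fun i => c.σ ((![1, t, c.σ t] : Fin 3 → F) i) * (![1, t, c.σ t] : Fin 3 → F) i) =
      fun _ => (1 : F) from funext fun i => by rw [mul_comm]; exact hd3 i, Matrix.diagonal_one,
      Matrix.mul_one]
  rw [key, mul_inv_cancel_right, semi_emb c 0 _ _ hd3]
  congr 1
  refine ext_mat fun k l => ?_
  rw [mat_semi_apply, mat_semi_apply]
  fin_cases k <;> fin_cases l <;> simp [shift]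

/-- Adjusting the second of two consecutive standard pairs. -/
theorem exists_adjust (hF : Nat.card F = q ^ 2) (hq : 3 < q) {V A B V' C : Subgroup G}
    {φ φ' : SUg 3 F q →* G} (h : IsPair c V A B φ) (h' : IsPair c V' B C φ')
    (hAC : ∀ x ∈ A, ∀ y ∈ C, x * y = y * x) :
    ∃ φ'' : SUg 3 F q →* G, IsPair c V' B C φ'' ∧
      φ''.comp (emb (r := 2) c 0 (by norm_num)) = φ.comp (emb (r := 2) c 1 (by norm_num)) := by
  classical
  set a := φ.comp (emb (r := 2) c 1 (by norm_num)) with hadef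
  set b := φ'.comp (emb (r := 2) c 0 (by norm_num)) with hbdef
  let α : SUg 2 F q ≃* SUg 2 F q :=
    ((MonoidHom.ofInjective h.inj₁).trans (MulEquiv.subgroupCongr (h.range₁.trans h'.range₀.symm))).trans
      (MonoidHom.ofInjective h'.inj₀).symm
  have hα : ∀ g, b (α g) = a g := fun g => by
    have e1 : (MonoidHom.ofInjective h'.inj₀ (α g) : G) = a g := by
      show ((MonoidHom.ofInjective h'.inj₀) ((MonoidHom.ofInjective h'.inj₀).symm _) : G) = a g
      rw [MulEquiv.apply_symm_apply]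
      rfl
    exact e1
  obtain ⟨t₀, ht₀, ht₀1, ht₀2⟩ := exists_norm_one_ne hF c
  have hts₀ : nm c t₀ + nm c (0 : F) = 1 := by rw [nm_zero, add_zero]; exact ht₀
  have hd₁ : ∀ i, nm c ((![1, t₀] : Fin 2 → F) i) = 1 := by
    intro i; fin_cases i <;> simp [show nm c t₀ = 1 from ht₀]
  set u := φ' (emb c 1 (by norm_num : 1 + 2 ≤ 3) (sb c t₀ 0 hts₀)) with hudef
  have huC : u ∈ C := h'.range₁ ▸ ⟨_, rfl⟩
  -- the centraliser of a torus element cuts out the diagonal elements
  have hcent : ∀ g, IsDiag₂ g ↔ u * b g * u⁻¹ = b g := by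
    intro g
    have e : u * b g * u⁻¹ = b (semi c _ hd₁ (RingEquiv.refl F) g) := by
      rw [hudef, hbdef]
      show φ' _ * φ' _ * (φ' _)⁻¹ = φ' _
      rw [← map_inv, ← map_mul, ← map_mul, conj_torus₁ t₀ hts₀ g hd₁]
    rw [e]
    constructor
    · intro hg
      congr 1
      refine ext_mat fun k l => ?_
      rw [mat_semi_apply]
      have htt : t₀ * c.σ t₀ = 1 := ht₀
      fin_cases k <;> fin_cases l <;> simp [hg.1, hg.2]
      linear_combination (mat g 1 1) * htt
    · intro hg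
      have e2 := h'.inj₀ hg
      have h01 := congrArg (fun z => mat z 0 1) e2
      simp [mat_semi_apply] at h01
      obtain ⟨-, hs⟩ := shape c g
      have hne : c.σ t₀ ≠ 1 := fun e1 => ht₀1 (by rw [← c.invol t₀, e1, map_one])
      have hz : mat g 0 1 = 0 := by
        by_contra hz
        exact hne (mul_left_cancel₀ hz (h01.trans (mul_one _).symm))
      refine ⟨hz, ?_⟩
      rw [hz] at hs
      exact c.eq_zero (neg_eq_zero.1 hs.symm)
  -- the preimage of the torus consists of diagonal elements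
  have hsub : ∀ g, IsDiag₂ (α g) → IsDiag₂ g := by
    intro g hg
    have hd₀ : ∀ i, nm c ((![c.σ t₀, 1] : Fin 2 → F) i) = 1 := by
      intro i; fin_cases i <;> simp [show nm c t₀ = 1 from ht₀]
    set g' := semi c _ hd₀ (RingEquiv.refl F) g with hg'def
    set v := φ (emb c 0 (by norm_num : (0 : ℕ) + 2 ≤ 3) (sb c t₀ 0 hts₀)) with hvdef
    have hvA : v ∈ A := h.range₀ ▸ ⟨_, rfl⟩
    have hconj : a g' = v * a g * v⁻¹ := by
      rw [hvdef, hadef]
      show φ _ = φ _ * φ _ * (φ _)⁻¹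
      rw [← map_inv, ← map_mul, ← map_mul, conj_torus₀ t₀ hts₀ g hd₀]
    have hdiag' : IsDiag₂ (α g') := by
      rw [hcent, hα, hconj]
      have h1 := (hcent _).1 hg
      rw [hα] at h1
      have hc1 := hAC v hvA u huC
      calc u * (v * a g * v⁻¹) * u⁻¹ = (u * v) * a g * (u * v)⁻¹ := by group
        _ = (v * u) * a g * (v * u)⁻¹ := by rw [hc1]
        _ = v * (u * a g * u⁻¹) * v⁻¹ := by group
        _ = _ := by rw [h1]
    have hcomm : g * g' = g' * g := α.injective (by rw [map_mul, map_mul]; exact diag_comm hg hdiag')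
    have h00 := congrArg (fun z => mat z 0 0) hcomm
    obtain ⟨-, hs⟩ := shape c g
    simp [mat_mul, Matrix.mul_apply, Fin.sum_univ_two, hg'def, mat_semi_apply, hs, c.invol] at h00
    have hts : t₀ * c.σ t₀ = 1 := ht₀
    have hne : t₀ ≠ c.σ t₀ := fun e1 => ht₀2 (by
      conv_lhs => arg 2; rw [e1]
      exact hts)
    have hy : c.σ (mat g 1 0) * mat g 1 0 * (t₀ - c.σ t₀) = 0 := by
      linear_combination -h00
    rcases mul_eq_zero.1 hy with h0 | h0
    · have hz : mat g 1 0 = 0 := (mul_eq_zero.1 h0).elim c.eq_zero id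
      exact ⟨by rw [hs, hz, map_zero, neg_zero], hz⟩
    · exact absurd (sub_eq_zero.1 h0) hne
  have hD : ∀ g, IsDiag₂ g → IsDiag₂ (α g) := by
    let f : {g : SUg 2 F q // IsDiag₂ g} → {g : SUg 2 F q // IsDiag₂ g} := fun g =>
      ⟨α.symm g.1, hsub _ (by rw [MulEquiv.apply_symm_apply]; exact g.2)⟩
    have hf : Function.Surjective f := Finite.surjective_of_injective fun x y e =>
      Subtype.ext (α.symm.injective (congrArg Subtype.val e))
    intro g hg
    obtain ⟨⟨x, hx⟩, e⟩ := hf ⟨g, hg⟩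
    have e1 : α.symm x = g := congrArg Subtype.val e
    rw [← e1, MulEquiv.apply_symm_apply]
    exact hx
  obtain ⟨β, τ, hβ, hmain⟩ := exists_semi c hF hq α hD
  have hd3 : ∀ i, nm c ((![1, β, 1] : Fin 3 → F) i) = 1 := by intro i; fin_cases i <;> simp [hβ]
  refine ⟨φ'.comp (semi c _ hd3 τ), h'.comp_semi _ hd3 τ, MonoidHom.ext fun g => ?_⟩
  show φ' (semi c _ hd3 τ (emb c 0 _ g)) = a g
  rw [← hα, semi_emb]
  refine congrArg (fun z => φ' (emb c 0 _ z)) (ext_mat fun k l => ?_)
  rw [hmain, mat_semi_apply]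
  fin_cases k <;> fin_cases l <;> simp [shift, Matrix.mul_diagonal, Matrix.diagonal_mul]

end CfsgLib.SUAmalgam
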